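import Cfsg.Agent.Glauberman.Over
import Cfsg.Agent.Coprime.Glauberman
import Mathlib.GroupTheory.FiniteAbelian.Duality
import Mathlib.RingTheory.RootsOfUnity.AlgebraicallyClosed
import Mathlib.Analysis.Complex.Polynomial.Basic

/-!
# Invariant constituents of restricted and induced characters

The existence part of Glauberman's lemma applied to constituents: below (transitive action of the
group) and above a solvable quotient (transitive action of linear characters).
-/

set_option autoImplicit false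

namespace CfsgLib.Glauberman

open Cfsg MulAction
open scoped commutatorElement

universe u

/-- Glauberman's lemma modulo a normal subgroup acting trivially. -/
theorem exists_fixed_mod {X α : Type*} [Group X] [Finite X] [MulAction X α] (N : Subgroup X)
    [N.Normal] (hN : ∀ n ∈ N, ∀ x : α, n • x = x) {A G : Subgroup X}
    (hAG : ∀ a ∈ A, ∀ g ∈ G, a * g * a⁻¹ ∈ G)
    (hcop : (N.relIndex G).Coprime (Nat.card A))
    (hsol : Group.IsSolvable A ∨ Group.IsSolvable (G ⧸ N.subgroupOf G))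
    {T : Set α} (hne : T.Nonempty) (hTA : ∀ a ∈ A, ∀ s ∈ T, a • s ∈ T)
    (hTG : ∀ g ∈ G, ∀ s ∈ T, g • s ∈ T) (htr : ∀ s ∈ T, ∀ t ∈ T, ∃ g ∈ G, g • s = t) :
    ∃ s ∈ T, ∀ a ∈ A, a • s = s := by
  letI : MulAction (X ⧸ N) α := MulAction.compHom α
    (QuotientGroup.lift N (MulAction.toPermHom X α) fun n hn => Equiv.ext fun x => hN n hn x)
  have hsmul : ∀ (x : X) (s : α), (x : X ⧸ N) • s = x • s := fun x s => rfl
  let π := QuotientGroup.mk' N
  have hcard : Nat.card (G.map π) = N.relIndex G := by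
    rw [← MonoidHom.restrict_range, ← Subgroup.index_ker, MonoidHom.ker_restrict,
      QuotientGroup.ker_mk']
    rfl
  have hcop' : (Nat.card (A.map π)).Coprime (Nat.card (G.map π)) := by
    rw [hcard]
    exact hcop.symm.coprime_dvd_left (Subgroup.card_map_dvd _ _)
  have hsol' : Group.IsSolvable (A.map π) ∨ Group.IsSolvable (G.map π) := by
    rcases hsol with h | h
    · exact Or.inl (CfsgLib.Coprime.isSolvable_map π A h)
    · haveI := h
      refine Or.inr (Group.isSolvable_of_surjective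
        (f := QuotientGroup.lift (N.subgroupOf G) (π.subgroupMap G) fun g hg => Subtype.ext
          ((QuotientGroup.eq_one_iff (g : X)).2 hg)) ?_)
      rintro ⟨_, g, hg, rfl⟩
      exact ⟨((⟨g, hg⟩ : G) : G ⧸ N.subgroupOf G), rfl⟩
  obtain ⟨s, hs, hfix⟩ := CfsgLib.Coprime.exists_fixed (A := A.map π) (G := G.map π)
    (CfsgLib.Coprime.le_normalizer_of_conj_mem (by
      rintro _ ⟨a, ha, rfl⟩ _ ⟨g, hg, rfl⟩
      exact ⟨a * g * a⁻¹, hAG a ha g hg, by simp⟩)) hcop' hsol' hne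
    (by rintro _ ⟨a, ha, rfl⟩ s hs; exact hTA a ha s hs)
    (by rintro _ ⟨g, hg, rfl⟩ s hs; exact hTG g hg s hs)
    (fun s hs t ht => by
      obtain ⟨g, hg, h⟩ := htr s hs t ht
      exact ⟨π g, ⟨g, hg, rfl⟩, h⟩)
  exact ⟨s, hs, fun a ha => hfix (π a) ⟨a, ha, rfl⟩⟩

/-- Glauberman's lemma for an abelian group in a transitive action, by averaging. -/
theorem exists_fixed_of_comm {A Q α : Type*} [CommGroup A] [Group Q] [Finite Q] [MulAction A α]
    [MulAction Q α] [MulDistribMulAction Q A]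
    (hcompat : ∀ (q : Q) (a : A) (x : α), q • a • x = (q • a) • q • x)
    {n : ℕ} (hexp : ∀ a : A, a ^ n = 1) (hcop : n.Coprime (Nat.card Q))
    {T : Set α} (hne : T.Nonempty) (hTQ : ∀ (q : Q), ∀ x ∈ T, q • x ∈ T)
    (hTA : ∀ (a : A), ∀ x ∈ T, a • x ∈ T) (htr : ∀ x ∈ T, ∀ y ∈ T, ∃ a : A, a • x = y) :
    ∃ x ∈ T, ∀ q : Q, q • x = x := by
  classical
  haveI := Fintype.ofFinite Q
  obtain ⟨x, hx⟩ := hne
  choose c hc using fun q : Q => htr x hx (q • x) (hTQ q x hx)
  have hco : ∀ q r : Q, c (q * r) • x = ((q • c r) * c q) • x := fun q r => by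
    rw [hc, mul_smul q r, mul_smul (q • c r), hc q, ← hcompat, hc r]
  have hprod : ∀ (s : Finset Q) (f g : Q → A), (∀ r, f r • x = g r • x) →
      (∏ r ∈ s, f r) • x = (∏ r ∈ s, g r) • x := by
    intro s f g h
    induction s using Finset.induction_on with
    | empty => simp
    | @insert r s hr ih =>
      rw [Finset.prod_insert hr, Finset.prod_insert hr, mul_smul, ih, ← mul_smul, mul_comm,
        mul_smul, h r, ← mul_smul, mul_comm]
  have hpow : ∀ (a b : A), a • x = b • x → ∀ k : ℕ, (a ^ k) • x = (b ^ k) • x := by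
    intro a b h k
    have := hprod (Finset.univ : Finset Q) (fun _ => a) (fun _ => b) fun _ => h
    induction k with
    | zero => rw [pow_zero, pow_zero]
    | succ k ih => rw [pow_succ, pow_succ', mul_smul, h, ← mul_smul, mul_comm, mul_smul, ih,
        ← mul_smul]
  set P := ∏ r : Q, c r with hP
  obtain ⟨m, hm⟩ := CfsgLib.Coprime.exists_mul_modEq_one hcop.symm
  refine ⟨P ^ m • x, hTA _ x hx, fun q => ?_⟩
  have h1 : P • x = ((q • P) * c q ^ Nat.card Q) • x := by
    calc P • x = (∏ r : Q, c (q * r)) • x := by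
          rw [hP, ← Equiv.prod_comp (Equiv.mulLeft q)]; rfl
      _ = (∏ r : Q, ((q • c r) * c q)) • x := hprod _ _ _ (hco q)
      _ = _ := by
          rw [Finset.prod_mul_distrib, Finset.prod_const, Finset.card_univ,
            ← Nat.card_eq_fintype_card, hP, Finset.smul_prod']
  rw [hcompat, ← hc q, ← mul_smul]
  conv_rhs => rw [hpow _ _ h1 m, mul_pow, ← pow_mul, mul_comm (Nat.card Q) m]
  rw [smul_pow']
  congr 2
  conv_lhs => rw [← pow_one (c q)]
  exact pow_eq_pow_iff_modEq.2 ((hm.symm).of_dvd (orderOf_dvd_of_pow_eq_one (hexp _)))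

variable {Γ : Type u} [Group Γ]

/-- Transport of the multiplicity from a subgroup to its copy inside `G`. -/
theorem classInner_subgroupOf {G N : Subgroup Γ} (hNG : N ≤ G) [Fintype N]
    [Fintype (N.subgroupOf G)] (χ : IrrCharacter G) (θ : IrrCharacter N) :
    classInner (fun n : N.subgroupOf G => (χ : G → ℂ) n)
      ((irrPull (Subgroup.subgroupOfEquivOfLe hNG) θ : IrrCharacter (N.subgroupOf G)) :
        N.subgroupOf G → ℂ) =
      classInner (fun n : N => (χ : G → ℂ) ⟨n, hNG n.2⟩) (θ : N → ℂ) :=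
  CfsgLib.Chars.Induced.classInner_comp_equiv (Subgroup.subgroupOfEquivOfLe hNG)
    (fun n : N => (χ : G → ℂ) ⟨n, hNG n.2⟩) (θ : N → ℂ)

/-- **An invariant constituent below.** -/
theorem exists_fixed_below [Finite Γ] (G S N : Subgroup Γ) [Fintype N]
    (hnorm : ∀ s ∈ S, ∀ g ∈ G, s * g * s⁻¹ ∈ G) (hNG : N ≤ G) [hNn : (N.subgroupOf G).Normal]
    (hNS : ∀ s ∈ S, ∀ n ∈ N, s * n * s⁻¹ ∈ N) (hcop : (N.relIndex G).Coprime (Nat.card S))
    (hsol : Group.IsSolvable S ∨ Group.IsSolvable (G ⧸ N.subgroupOf G)) (χ : IrrCharacter G)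
    (hinv : ∀ s ∈ S, ∀ g g' : G, (g' : Γ) = s * g * s⁻¹ → (χ : G → ℂ) g' = (χ : G → ℂ) g) :
    ∃ θ : IrrCharacter N, classInner (fun n : N => (χ : G → ℂ) ⟨n, hNG n.2⟩) (θ : N → ℂ) ≠ 0 ∧
      ∀ s ∈ S, ∀ g g' : N, (g' : Γ) = s * g * s⁻¹ → (θ : N → ℂ) g' = (θ : N → ℂ) g := by
  classical
  haveI := Fintype.ofFinite G
  haveI := Fintype.ofFinite (N.subgroupOf G)
  set X : Subgroup Γ := Subgroup.normalizer (N : Set Γ) with hX
  have hGX : G ≤ X := fun g hg => Subgroup.mem_normalizer_iff.2 fun n =>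
    ⟨fun hn => hNn.conj_mem ⟨n, hNG hn⟩ hn ⟨g, hg⟩, fun hn => by
      have hnG : n ∈ G := by
        simpa [mul_assoc] using mul_mem (mul_mem (inv_mem hg) (hNG hn)) hg
      simpa [Subgroup.mem_subgroupOf, mul_assoc] using
        hNn.conj_mem (⟨g * n * g⁻¹, mul_mem (mul_mem hg hnG) (inv_mem hg)⟩ : G) hn ⟨g⁻¹, inv_mem hg⟩⟩
  have hSX : S ≤ X := CfsgLib.Coprime.le_normalizer_of_conj_mem hNS
  letI := conjSubAction N X fun x hx n hn => (Subgroup.mem_normalizer_iff.1 hx n).1 hn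
  let mu : IrrCharacter N → ℂ := fun η =>
    classInner (fun n : N => (χ : G → ℂ) ⟨n, hNG n.2⟩) (η : N → ℂ)
  have hmu : ∀ (y : X) (η : IrrCharacter N), (∀ n n' : G, (n : Γ) ∈ N →
      (n' : Γ) = y.1 * n * y.1⁻¹ → (χ : G → ℂ) n' = (χ : G → ℂ) n) → mu (y • η) = mu η := by
    intro y η h
    simp only [mu, classInner]
    congr 1
    refine Fintype.sum_equiv (MulDistribMulAction.toMulEquiv N y⁻¹).toEquiv _ _ fun n => ?_
    show (χ : G → ℂ) ⟨n, hNG n.2⟩ * (starRingEnd ℂ) ((η : N → ℂ) (y⁻¹ • n)) =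
      (χ : G → ℂ) ⟨(y⁻¹ • n : N), hNG (y⁻¹ • n : N).2⟩ * (starRingEnd ℂ) ((η : N → ℂ) (y⁻¹ • n))
    congr 1
    refine h ⟨(y⁻¹ • n : N), hNG (y⁻¹ • n : N).2⟩ ⟨n, hNG n.2⟩ (y⁻¹ • n : N).2 ?_
    show (n : Γ) = y.1 * ((y⁻¹).1 * n * (y⁻¹).1⁻¹) * y.1⁻¹
    simp [mul_assoc]
  have hGfix : ∀ g (hg : g ∈ G) (n n' : G), (n : Γ) ∈ N → (n' : Γ) = g * n * g⁻¹ →
      (χ : G → ℂ) n' = (χ : G → ℂ) n := by
    intro g hg n n' _ h
    rw [show n' = ⟨g, hg⟩ * n * (⟨g, hg⟩ : G)⁻¹ from Subtype.ext h]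
    exact CfsgLib.Chars.isClassFunction_coe χ n ⟨g, hg⟩
  have hNn' : (N.subgroupOf X).Normal := Subgroup.normal_in_normalizer
  have hNtriv : ∀ n ∈ N.subgroupOf X, ∀ η : IrrCharacter N, n • η = η := by
    intro n hn η
    refine Subtype.ext (funext fun m => ?_)
    rw [irrAction_apply]
    have h := CfsgLib.Chars.isClassFunction_coe η m (⟨n.1, hn⟩ : N)⁻¹
    rwa [show (⟨n.1, hn⟩ : N)⁻¹ * m * ((⟨n.1, hn⟩ : N)⁻¹)⁻¹ = n⁻¹ • m from Subtype.ext rfl] at h
  obtain ⟨θ, hθ, hfix⟩ := exists_fixed_mod (X := X) (N.subgroupOf X) hNtriv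
    (A := S.subgroupOf X) (G := G.subgroupOf X) (fun a ha g hg => hnorm a.1 ha g.1 hg)
    (by
      rw [show (N.subgroupOf X).relIndex (G.subgroupOf X) = N.relIndex G from
          Subgroup.relIndex_subgroupOf hGX,
        Nat.card_congr (Subgroup.subgroupOfEquivOfLe hSX).toEquiv]
      exact hcop)
    (by
      rcases hsol with h | h
      · haveI := h
        exact Or.inl (Group.isSolvable_of_isSolvable_injective
          (f := (Subgroup.subgroupOfEquivOfLe hSX).toMonoidHom)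
          (Subgroup.subgroupOfEquivOfLe hSX).injective)
      · haveI := h
        haveI : ((N.subgroupOf X).subgroupOf (G.subgroupOf X)).Normal := inferInstance
        refine Or.inr (Group.isSolvable_of_surjective (f := QuotientGroup.map (N.subgroupOf G)
          ((N.subgroupOf X).subgroupOf (G.subgroupOf X))
          (Subgroup.subgroupOfEquivOfLe hGX).symm.toMonoidHom fun x hx => hx) ?_)
        refine QuotientGroup.mk_surjective.forall.2 fun y => ?_
        exact ⟨((Subgroup.subgroupOfEquivOfLe hGX y : G) : G ⧸ N.subgroupOf G),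
          congrArg _ ((Subgroup.subgroupOfEquivOfLe hGX).symm_apply_apply y)⟩)
    (T := {η | mu η ≠ 0})
    (by
      obtain ⟨η, hη⟩ : ∃ η, mu η ≠ 0 := by
        by_contra hall
        push Not at hall
        have h1 := CfsgLib.Chars.eq_zero_of_classInner_eq_zero
          (CfsgLib.Chars.isClassFunction_of_isCharacter (CfsgLib.Chars.isCharacter_comp
            (CfsgLib.Chars.isCharacter_coe χ) (Subgroup.inclusion hNG))) hall
        exact CfsgLib.Chars.map_one_ne_zero χ (congrFun h1 1)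
      exact ⟨η, hη⟩)
    (fun a ha η hη => by
      show mu (a • η) ≠ 0
      rw [hmu a η fun n n' _ h => hinv a.1 ha n n' h]
      exact hη)
    (fun g hg η hη => by
      show mu (g • η) ≠ 0
      rw [hmu g η (hGfix g.1 hg)]
      exact hη)
    (fun η hη ξ hξ => by
      let σ : N.subgroupOf G ≃* N := Subgroup.subgroupOfEquivOfLe hNG
      have hm : ∀ η' : IrrCharacter N, mu η' ≠ 0 → CfsgLib.Chars.Induced.mult
          (fun n : N.subgroupOf G => (χ : G → ℂ) n) (irrPull σ η' : IrrCharacter _) ≠ 0 := by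
        intro η' h
        rw [CfsgLib.Chars.Induced.mult_ne_zero_iff (CfsgLib.Chars.isCharacter_restrict
          (CfsgLib.Chars.isCharacter_coe χ) _), classInner_subgroupOf hNG]
        exact h
      obtain ⟨g, hg⟩ := CfsgLib.Chars.Induced.mem_conjOrbit_of_mult_ne_zero χ
        (irrPull σ η) (irrPull σ ξ) (hm η hη) (hm ξ hξ)
      refine ⟨⟨g.1, hGX g.2⟩, g.2, Subtype.ext (funext fun n => ?_)⟩
      have h := congrFun (congrArg Subtype.val hg) (σ.symm n)
      rw [irrAction_apply]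
      rw [irrPull_apply, σ.apply_symm_apply] at h
      rw [← h]
      simp only [CfsgLib.Chars.Induced.conjIrr_coe, CfsgLib.Chars.Induced.conjFun_apply,
        irrPull_apply]
      exact congrArg (η : N → ℂ) (Subtype.ext (show (g.1)⁻¹ * n.1 * (g.1)⁻¹⁻¹ = g.1⁻¹ * n.1 * g.1
        by rw [inv_inv])))
  refine ⟨θ, hθ, fun s hs n n' h => ?_⟩
  have h1 := congrFun (congrArg Subtype.val (hfix ⟨s, hSX hs⟩ hs)) n'
  rw [irrAction_apply] at h1
  rw [← h1]
  refine congrArg (θ : N → ℂ) (Subtype.ext ?_)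
  show s⁻¹ * n'.1 * s⁻¹⁻¹ = n.1
  rw [h]; group

/-- An invariant constituent above, for an abelian quotient. -/
theorem exists_fixed_above_comm [Finite Γ] (G S N : Subgroup Γ) [Fintype N]
    (hnorm : ∀ s ∈ S, ∀ g ∈ G, s * g * s⁻¹ ∈ G) (hNG : N ≤ G)
    (hNS : ∀ s ∈ S, ∀ n ∈ N, s * n * s⁻¹ ∈ N) (hcomm : ⁅G, G⁆ ≤ N)
    (hcop : (N.relIndex G).Coprime (G.relIndex S)) (θ : IrrCharacter N)
    (hinv : ∀ s ∈ S, ∀ g g' : N, (g' : Γ) = s * g * s⁻¹ → (θ : N → ℂ) g' = (θ : N → ℂ) g) :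
    ∃ χ : IrrCharacter G, classInner (fun n : N => (χ : G → ℂ) ⟨n, hNG n.2⟩) (θ : N → ℂ) ≠ 0 ∧
      ∀ s ∈ S, ∀ g g' : G, (g' : Γ) = s * g * s⁻¹ → (χ : G → ℂ) g' = (χ : G → ℂ) g := by
  classical
  haveI := Fintype.ofFinite G
  haveI := Fintype.ofFinite (N.subgroupOf G)
  have hcomm' : commutator G ≤ N.subgroupOf G := by
    rw [commutator_def, Subgroup.commutator_le]
    exact fun a _ b _ => hcomm (Subgroup.commutator_mem_commutator a.2 b.2)
  haveI : (N.subgroupOf G).Normal := Subgroup.Normal.of_commutator_le _ hcomm'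
  let σ : N.subgroupOf G ≃* N := Subgroup.subgroupOfEquivOfLe hNG
  -- linear characters trivial on `N`
  let L : Subgroup (G →* ℂˣ) :=
    { carrier := {l | N.subgroupOf G ≤ l.ker}
      one_mem' := fun x _ => rfl
      mul_mem' := fun {a b} ha hb x hx => by
        rw [MonoidHom.mem_ker, MonoidHom.mul_apply, ha hx, hb hx, one_mul]
      inv_mem' := fun {a} ha x hx => by
        rw [MonoidHom.mem_ker, MonoidHom.inv_apply, ha hx, inv_one] }
  let _commQ : CommGroup (G ⧸ N.subgroupOf G) :=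
    { (inferInstance : Group (G ⧸ N.subgroupOf G)) with
      mul_comm := fun a b => by
        obtain ⟨a, rfl⟩ := QuotientGroup.mk_surjective a
        obtain ⟨b, rfl⟩ := QuotientGroup.mk_surjective b
        rw [← QuotientGroup.mk_mul, ← QuotientGroup.mk_mul, QuotientGroup.eq]
        have h := hcomm' (Subgroup.commutator_mem_commutator (Subgroup.mem_top b⁻¹)
          (Subgroup.mem_top a⁻¹))
        simpa [commutatorElement_def, mul_assoc] using h }
  let liftL : L → ((G ⧸ N.subgroupOf G) →* ℂˣ) := fun l =>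
    QuotientGroup.lift (N.subgroupOf G) l.1 l.2
  haveI : Finite ((G ⧸ N.subgroupOf G) →* ℂˣ) :=
    Finite.of_equiv _ (CommGroup.monoidHom_mulEquiv_of_hasEnoughRootsOfUnity
      (G ⧸ N.subgroupOf G) ℂ).some.symm.toEquiv
  haveI : Finite L := Finite.of_injective liftL fun l l' h => Subtype.ext (MonoidHom.ext fun g =>
    congrArg (fun f : (G ⧸ N.subgroupOf G) →* ℂˣ => f g) h)
  haveI := Fintype.ofFinite L
  -- the sum of these is supported on `N`
  have hsum : ∀ g : G, g ∉ N.subgroupOf G → ∑ l : L, ((l.1 g : ℂˣ) : ℂ) = 0 := by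
    intro g hg
    obtain ⟨f, hf⟩ := CommGroup.exists_apply_ne_one_of_hasEnoughRootsOfUnity (G ⧸ N.subgroupOf G) ℂ
      (a := (g : G ⧸ N.subgroupOf G)) fun h => hg ((QuotientGroup.eq_one_iff g).1 h)
    let l₀ : L := ⟨f.comp (QuotientGroup.mk' _), fun x hx => by
      rw [MonoidHom.mem_ker, MonoidHom.comp_apply, QuotientGroup.mk'_apply,
        (QuotientGroup.eq_one_iff x).2 hx, map_one]⟩
    have h1 : ((l₀.1 g : ℂˣ) : ℂ) * ∑ l : L, ((l.1 g : ℂˣ) : ℂ) = ∑ l : L, ((l.1 g : ℂˣ) : ℂ) := by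
      rw [Finset.mul_sum]
      exact Fintype.sum_equiv (Equiv.mulLeft l₀) _ _ fun l => by simp
    by_contra hne
    exact hf (Units.val_eq_one.1 ((mul_eq_right₀ hne).1 h1))
  -- the groups acting
  letI actS := conjSubAction G S hnorm
  let R : Subgroup S := G.subgroupOf S
  have hRn : R.Normal := ⟨fun x hx s => hnorm s.1 s.2 x.1 hx⟩
  let twist : L → IrrCharacter G → IrrCharacter G := fun l χ =>
    ⟨fun g => ((l.1 g : ℂˣ) : ℂ) * (χ : G → ℂ) g,
      CfsgLib.Chars.isIrrCharacter_linear_mul χ.2 l.1⟩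
  letI actL : MulAction L (IrrCharacter G) :=
    { smul := twist
      one_smul := fun χ => Subtype.ext (funext fun g => by
        show (((1 : L).1 g : ℂˣ) : ℂ) * _ = _
        simp)
      mul_smul := fun a b χ => Subtype.ext (funext fun g => by
        show (((a * b : L).1 g : ℂˣ) : ℂ) * _ = ((a.1 g : ℂˣ) : ℂ) * (((b.1 g : ℂˣ) : ℂ) * _)
        simp [mul_assoc]) }
  let conjL : S → L → L := fun s l => ⟨l.1.comp
    ((MulDistribMulAction.toMonoidHom G s⁻¹)), fun x hx => l.2 (by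
      show s⁻¹.1 * x.1 * s⁻¹.1⁻¹ ∈ N
      exact hNS _ (inv_mem s.2) _ hx)⟩
  letI actSL : MulDistribMulAction S L :=
    { smul := conjL
      one_smul := fun l => Subtype.ext (MonoidHom.ext fun g => by
        show l.1 ((1 : S)⁻¹ • g) = l.1 g
        rw [inv_one, one_smul])
      mul_smul := fun s t l => Subtype.ext (MonoidHom.ext fun g => by
        show l.1 ((s * t)⁻¹ • g) = l.1 (t⁻¹ • s⁻¹ • g)
        rw [mul_inv_rev, mul_smul])
      smul_mul := fun s a b => Subtype.ext (MonoidHom.ext fun g => rfl)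
      smul_one := fun s => Subtype.ext (MonoidHom.ext fun g => rfl) }
  have hRL : ∀ r ∈ R, ∀ l : L, r • l = l := by
    intro r hr l
    refine Subtype.ext (MonoidHom.ext fun g => ?_)
    show l.1 (r⁻¹ • g) = l.1 g
    rw [show r⁻¹ • g = (⟨r.1, hr⟩ : G)⁻¹ * g * (⟨r.1, hr⟩ : G) from Subtype.ext (by
      show r⁻¹.1 * g.1 * r⁻¹.1⁻¹ = r.1⁻¹ * g.1 * r.1
      simp), map_mul, map_mul, map_inv, inv_mul_cancel_comm]
  have hRI : ∀ r ∈ R, ∀ χ : IrrCharacter G, r • χ = χ := by
    intro r hr χ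
    refine Subtype.ext (funext fun g => ?_)
    rw [irrAction_apply, show r⁻¹ • g = (⟨r.1, hr⟩ : G)⁻¹ * g * ((⟨r.1, hr⟩ : G)⁻¹)⁻¹ from
      Subtype.ext rfl]
    exact CfsgLib.Chars.isClassFunction_coe χ g _
  let actQ : MulAction (S ⧸ R) (IrrCharacter G) := MulAction.compHom _
    (QuotientGroup.lift R (MulAction.toPermHom S (IrrCharacter G))
      fun r hr => Equiv.ext fun x => hRI r hr x)
  letI := actQ
  letI : MulDistribMulAction (S ⧸ R) L := MulDistribMulAction.compHom _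
    (QuotientGroup.lift R (MulDistribMulAction.toMulAut S L)
      fun r hr => MulEquiv.ext fun x => hRL r hr x)
  let mu : IrrCharacter G → ℂ := fun χ =>
    classInner (fun n : N => (χ : G → ℂ) ⟨n, hNG n.2⟩) (θ : N → ℂ)
  have hmuL : ∀ (l : L) (χ : IrrCharacter G), mu (l • χ) = mu χ := by
    intro l χ
    simp only [mu]
    congr 1
    funext n
    show ((l.1 ⟨n, hNG n.2⟩ : ℂˣ) : ℂ) * _ = _
    rw [show l.1 ⟨n, hNG n.2⟩ = 1 from l.2 n.2, Units.val_one, one_mul]
  have hmuS : ∀ (s : S) (χ : IrrCharacter G), mu (s • χ) = mu χ := by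
    intro s χ
    simp only [mu, classInner]
    congr 1
    let t : N ≃* N :=
      { toFun := fun n => ⟨s.1⁻¹ * n * s.1⁻¹⁻¹, hNS _ (inv_mem s.2) _ n.2⟩
        invFun := fun n => ⟨s.1 * n * s.1⁻¹, hNS _ s.2 _ n.2⟩
        left_inv := fun n => Subtype.ext (by simp [mul_assoc])
        right_inv := fun n => Subtype.ext (by simp [mul_assoc])
        map_mul' := fun a b => Subtype.ext (by simp [mul_assoc]) }
    refine Fintype.sum_equiv t.toEquiv _ _ fun n => ?_
    rw [irrAction_apply]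
    show (χ : G → ℂ) (s⁻¹ • ⟨n, hNG n.2⟩) * (starRingEnd ℂ) ((θ : N → ℂ) n) =
      (χ : G → ℂ) ⟨t n, hNG (t n).2⟩ * (starRingEnd ℂ) ((θ : N → ℂ) (t n))
    rw [hinv s⁻¹.1 (s⁻¹).2 n (t n) rfl]
    rfl
  obtain ⟨χ₀, hχ₀⟩ : ∃ χ, mu χ ≠ 0 := by
    obtain ⟨χ, hχ⟩ := CfsgLib.Chars.Induced.exists_mult_ne_zero
      (CfsgLib.Chars.Induced.isCharacter_indFun (N.subgroupOf G)
        (CfsgLib.Chars.isCharacter_coe (irrPull σ θ)))
      (fun h0 => by
        have h1 := congrFun h0 1
        rw [CfsgLib.Chars.Induced.indFun_one_apply, Pi.zero_apply, mul_eq_zero] at h1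
        exact h1.elim (fun h2 => Subgroup.index_ne_zero_of_finite (Nat.cast_eq_zero.1 h2))
          (CfsgLib.Chars.map_one_ne_zero _))
    rw [CfsgLib.Chars.Induced.mult_indFun_irr, CfsgLib.Chars.Induced.mult_ne_zero_iff
      (CfsgLib.Chars.isCharacter_restrict (CfsgLib.Chars.isCharacter_coe χ) _),
      classInner_subgroupOf hNG] at hχ
    exact ⟨χ, hχ⟩
  obtain ⟨χ, hχ, hfix⟩ := exists_fixed_of_comm (A := L) (Q := S ⧸ R) (α := IrrCharacter G)
    (fun q l χ => by
      induction q using QuotientGroup.induction_on with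
      | H s => exact Subtype.ext (funext fun g => rfl))
    (n := N.relIndex G) (fun l => Subtype.ext (MonoidHom.ext fun g => by
      rw [Subgroup.coe_pow, MonoidHom.pow_apply, ← map_pow]
      exact l.2 (Subgroup.pow_index_mem (N.subgroupOf G) g)))
    hcop (T := {χ | mu χ ≠ 0}) ⟨χ₀, hχ₀⟩
    (fun q χ h => by
      induction q using QuotientGroup.induction_on with
      | H s => show mu (s • χ) ≠ 0; rw [hmuS]; exact h)
    (fun l χ h => by show mu (l • χ) ≠ 0; rw [hmuL]; exact h)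
    (fun χ hχ χ' hχ' => by
      -- transitivity
      by_contra hall
      push Not at hall
      have horth : ∀ l : L, classInner (fun g => ((l.1 g : ℂˣ) : ℂ) * (χ : G → ℂ) g)
          (χ' : G → ℂ) = 0 := fun l => CfsgLib.Chars.classInner_of_ne (hall l)
      have hsum' : ∑ n : N.subgroupOf G, (χ : G → ℂ) n * (starRingEnd ℂ) ((χ' : G → ℂ) n) = 0 := by
        have h1 : ∑ l : L, ∑ g : G, (((l.1 g : ℂˣ) : ℂ) * (χ : G → ℂ) g) *
            (starRingEnd ℂ) ((χ' : G → ℂ) g) = 0 := Finset.sum_eq_zero fun l _ => by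
          have h := horth l
          rwa [classInner, mul_eq_zero, inv_eq_zero,
            or_iff_right (Nat.cast_ne_zero.2 Nat.card_pos.ne')] at h
        rw [Finset.sum_comm] at h1
        simp_rw [mul_assoc, ← Finset.sum_mul] at h1
        rw [← Finset.sum_filter_add_sum_filter_not Finset.univ (· ∈ N.subgroupOf G),
          Finset.sum_eq_zero (s := Finset.univ.filter fun g => ¬ g ∈ N.subgroupOf G) (fun g hg => by
            rw [hsum g (Finset.mem_filter.1 hg).2, zero_mul]), add_zero,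
          Finset.sum_subtype (p := (· ∈ N.subgroupOf G)) (F := inferInstance) _ (by simp)] at h1
        have hL : ∀ g : N.subgroupOf G, ∑ l : L, ((l.1 (g : G) : ℂˣ) : ℂ) = (Fintype.card L : ℂ) := by
          intro g
          rw [Finset.sum_congr rfl fun (l : L) _ => show ((l.1 (g : G) : ℂˣ) : ℂ) = 1 by
            rw [show l.1 (g : G) = 1 from l.2 g.2, Units.val_one]]
          simp
        simp only [hL, ← Finset.mul_sum] at h1
        exact (mul_eq_zero.1 h1).resolve_left (Nat.cast_ne_zero.2 Fintype.card_ne_zero)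
      -- but the common constituent `θ` makes this inner product positive
      let e : N.subgroupOf G →* G := (N.subgroupOf G).subtype
      have h2 : classInner (fun n => (χ : G → ℂ) (e n)) (fun n => (χ' : G → ℂ) (e n)) = 0 := by
        rw [classInner, show (∑ n : N.subgroupOf G, (χ : G → ℂ) (e n) *
          (starRingEnd ℂ) ((χ' : G → ℂ) (e n))) = 0 from hsum', mul_zero]
      rw [CfsgLib.Chars.classInner_eq_sum (CfsgLib.Chars.isClassFunction_of_isCharacter
        (CfsgLib.Chars.isCharacter_comp (CfsgLib.Chars.isCharacter_coe χ) e))] at h2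
      simp only [classInner_eq_mult, map_natCast] at h2
      have h3 : ∀ ψ : IrrCharacter (N.subgroupOf G), mult e χ ψ * mult e χ' ψ = 0 := by
        norm_cast at h2
        exact fun ψ => (Finset.sum_eq_zero_iff.1 h2) ψ (Finset.mem_univ _)
      have hmu' : ∀ ξ : IrrCharacter G, mu ξ ≠ 0 → mult e ξ (irrPull σ θ) ≠ 0 := fun ξ h h0 => h (by
        have h4 := (classInner_subgroupOf hNG ξ θ).symm.trans (classInner_eq_mult e ξ (irrPull σ θ))
        rw [h0, Nat.cast_zero] at h4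
        exact h4)
      exact mul_ne_zero (hmu' χ hχ) (hmu' χ' hχ') (h3 (irrPull σ θ)))
  refine ⟨χ, hχ, fun s hs g g' h => ?_⟩
  have hs' : (⟨s, hs⟩ : S) • χ = χ := hfix ((⟨s, hs⟩ : S) : S ⧸ R)
  have h1 := congrFun (congrArg Subtype.val hs') g'
  rw [irrAction_apply] at h1
  rw [← h1]
  refine congrArg (χ : G → ℂ) (Subtype.ext ?_)
  show s⁻¹ * g'.1 * s⁻¹⁻¹ = g.1
  rw [h]; group

/-- **An invariant constituent above a solvable quotient.** -/
theorem exists_fixed_above [Finite Γ] (S N : Subgroup Γ) [Fintype N]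
    (hNS : ∀ s ∈ S, ∀ n ∈ N, s * n * s⁻¹ ∈ N) (θ : IrrCharacter N)
    (hinv : ∀ s ∈ S, ∀ g g' : N, (g' : Γ) = s * g * s⁻¹ → (θ : N → ℂ) g' = (θ : N → ℂ) g) :
    ∀ G : Subgroup Γ, (∀ s ∈ S, ∀ g ∈ G, s * g * s⁻¹ ∈ G) → ∀ hNG : N ≤ G,
      (∀ g ∈ G, ∀ n ∈ N, g * n * g⁻¹ ∈ N) → (N.relIndex G).Coprime (N.relIndex S) →
      (∀ [(N.subgroupOf G).Normal], Group.IsSolvable (G ⧸ N.subgroupOf G)) →
      ∃ χ : IrrCharacter G, classInner (fun n : N => (χ : G → ℂ) ⟨n, hNG n.2⟩) (θ : N → ℂ) ≠ 0 ∧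
        ∀ s ∈ S, ∀ g g' : G, (g' : Γ) = s * g * s⁻¹ → (χ : G → ℂ) g' = (χ : G → ℂ) g := by
  classical
  intro G
  induction G using WellFoundedLT.induction with
  | _ G ih =>
    intro hnorm hNG hNn hcop hsol
    haveI hN' : (N.subgroupOf G).Normal := ⟨fun n hn g => hNn g.1 g.2 n.1 hn⟩
    rcases hNG.eq_or_lt with h | hlt
    · subst h
      refine ⟨θ, ?_, hinv⟩
      rw [show (fun n : N => (θ : N → ℂ) ⟨n, hNG n.2⟩) = (θ : N → ℂ) from rfl,
        CfsgLib.Chars.classInner_self]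
      exact one_ne_zero
    haveI : Group.IsSolvable (G ⧸ N.subgroupOf G) := hsol
    set L := ⁅G, G⁆ ⊔ N with hL
    have hLG : L ≤ G := sup_le (Subgroup.commutator_le.2 fun a ha b hb =>
      mul_mem (mul_mem (mul_mem ha hb) (inv_mem ha)) (inv_mem hb)) hNG
    have hconj : ∀ x : Γ, (∀ g ∈ G, x * g * x⁻¹ ∈ G) → (∀ n ∈ N, x * n * x⁻¹ ∈ N) →
        ∀ l ∈ L, x * l * x⁻¹ ∈ L := by
      intro x hxG hxN l hl
      have hle : L ≤ L.comap (MulAut.conj x).toMonoidHom := sup_le
        (Subgroup.commutator_le.2 fun a ha b hb => Subgroup.mem_sup_left (by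
          show x * ⁅a, b⁆ * x⁻¹ ∈ ⁅G, G⁆
          rw [show x * ⁅a, b⁆ * x⁻¹ = ⁅x * a * x⁻¹, x * b * x⁻¹⁆ by
            simp [commutatorElement_def, mul_assoc]]
          exact Subgroup.commutator_mem_commutator (hxG a ha) (hxG b hb)))
        (fun n hn => Subgroup.mem_sup_right (hxN n hn))
      exact hle hl
    have hLn : ∀ g ∈ G, ∀ l ∈ L, g * l * g⁻¹ ∈ L := fun g hg =>
      hconj g (fun a ha => mul_mem (mul_mem hg ha) (inv_mem hg)) (hNn g hg)
    have hLlt : L < G := by
      refine lt_of_le_of_ne hLG fun hLeq => ?_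
      set π := QuotientGroup.mk' (N.subgroupOf G)
      haveI : Nontrivial (G ⧸ N.subgroupOf G) := by
        obtain ⟨g, hgG, hgN⟩ := SetLike.exists_of_lt hlt
        exact ⟨⟨((⟨g, hgG⟩ : G) : G ⧸ N.subgroupOf G), 1, fun h =>
          hgN ((QuotientGroup.eq_one_iff (⟨g, hgG⟩ : G)).1 h)⟩⟩
      refine (Group.IsSolvable.commutator_lt_top_of_nontrivial (G ⧸ N.subgroupOf G)).ne
        (eq_top_iff.2 fun q _ => ?_)
      obtain ⟨g, rfl⟩ := QuotientGroup.mk_surjective q
      have hle : L ≤ ((commutator (G ⧸ N.subgroupOf G)).comap π).map G.subtype := sup_le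
        (Subgroup.commutator_le.2 fun a ha b hb => ⟨⁅(⟨a, ha⟩ : G), ⟨b, hb⟩⁆, by
          simp only [Subgroup.coe_comap, Set.mem_preimage, SetLike.mem_coe, map_commutatorElement]
          exact Subgroup.commutator_mem_commutator (Subgroup.mem_top _) (Subgroup.mem_top _),
          by simp [commutatorElement_def]⟩)
        (fun n hn => ⟨⟨n, hNG hn⟩, by
          simp only [Subgroup.coe_comap, Set.mem_preimage, SetLike.mem_coe]
          rw [show π ⟨n, hNG hn⟩ = 1 from (QuotientGroup.eq_one_iff _).2 hn]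
          exact one_mem _, rfl⟩)
      have hgL : (g : Γ) ∈ L := by rw [hLeq]; exact g.2
      obtain ⟨g', hg', e⟩ := hle hgL
      rw [show g = g' from Subtype.ext e.symm]
      exact hg'
    haveI : Fintype L := Fintype.ofFinite _
    have hd1 : N.relIndex L ∣ N.relIndex G :=
      Dvd.intro _ (Subgroup.relIndex_mul_relIndex N L G le_sup_right hLG)
    have hd2 : L.relIndex G ∣ N.relIndex G :=
      Dvd.intro_left _ (Subgroup.relIndex_mul_relIndex N L G le_sup_right hLG)
    have hd3 : G.relIndex S ∣ N.relIndex S := by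
      rw [← Subgroup.inf_relIndex_right G S, ← Subgroup.inf_relIndex_right N S]
      exact Dvd.intro_left _ (Subgroup.relIndex_mul_relIndex (N ⊓ S) (G ⊓ S) S
        (inf_le_inf_right S hNG) inf_le_right)
    obtain ⟨φ, hφ, hφinv⟩ := ih L hLlt
      (fun s hs => hconj s (hnorm s hs) (hNS s hs)) le_sup_right
      (fun l hl => hNn l (hLG hl)) (hcop.coprime_dvd_left hd1) (@fun _ =>
        Group.isSolvable_of_isSolvable_injective
          (f := QuotientGroup.map (N.subgroupOf L) (N.subgroupOf G) (Subgroup.inclusion hLG)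
            fun x hx => hx) (by
            refine (injective_iff_map_eq_one _).2 fun q => ?_
            refine QuotientGroup.induction_on q fun x hx => ?_
            exact (QuotientGroup.eq_one_iff x).2
              (((QuotientGroup.eq_one_iff (Subgroup.inclusion hLG x)).1 hx : _))))
    obtain ⟨χ, hχ, hχinv⟩ := exists_fixed_above_comm G S L hnorm hLG
      (fun s hs => hconj s (hnorm s hs) (hNS s hs)) le_sup_left
      ((hcop.coprime_dvd_left hd2).coprime_dvd_right hd3) φ hφinv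
    refine ⟨χ, fun h0 => ?_, hχinv⟩
    let e₁ : L →* G := Subgroup.inclusion hLG
    let e₂ : N →* L := Subgroup.inclusion le_sup_right
    have hm0 : mult (e₁.comp e₂) χ θ = 0 := mult_eq_of_classInner_eq _ _ _ (by
      rw [Nat.cast_zero]; exact h0)
    rw [mult_comp, Finset.sum_eq_zero_iff] at hm0
    have hnz : ∀ (H K : Subgroup Γ) [Fintype H] (hHK : H ≤ K) (a : IrrCharacter K)
        (b : IrrCharacter H), classInner (fun n : H => (a : K → ℂ) ⟨n, hHK n.2⟩) (b : H → ℂ) ≠ 0 →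
        mult (Subgroup.inclusion hHK) a b ≠ 0 := by
      intro H K _ hHK a b hab h0'
      refine hab ((classInner_eq_mult (Subgroup.inclusion hHK) a b).trans ?_)
      rw [h0', Nat.cast_zero]
    exact mul_ne_zero (hnz L G hLG χ φ hχ) (hnz N L le_sup_right φ θ hφ) (hm0 φ (Finset.mem_univ _))

end CfsgLib.Glauberman
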