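import Cfsg.Agent.Glauberman.Corr
import Cfsg.Agent.Chars.GaloisHom.Basic
import Cfsg.Agent.Chars.Basic.Columns
import Cfsg.Agent.Chars.Basic.Galois
import Cfsg.Agent.Chars.Basic.Linear
import Cfsg.Agent.Chars.Induced.Covering
import Cfsg.Agent.Chars.Induced.Clifford
import Cfsg.Agent.Chars.Induced.Gallagher
import Cfsg.Agent.S0888
import Mathlib.GroupTheory.Perm.Cycle.Type
import Mathlib.GroupTheory.Sylow
import Mathlib.GroupTheory.IndexNormal

/-!
# Characters fixed by a field automorphism over an odd index normal subgroup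
-/

set_option autoImplicit false

namespace CfsgLib.Glauberman

open Cfsg
open CfsgLib.Chars.Induced (conjFun inertia conjIrr conjOrbit)
open scoped ComplexConjugate

universe u

variable {G : Type u} [Group G] [Fintype G] {N : Subgroup G} [N.Normal] [Fintype N]

/-- Relative column orthogonality. -/
theorem sum_over_eq_zero (θ : IrrCharacter N) (a b : G)
    (hab : ¬ IsConj (a : G ⧸ N) (b : G ⧸ N))
    [DecidablePred fun χ : IrrCharacter G =>
      CfsgLib.Chars.Induced.mult (fun n : N => (χ : G → ℂ) n) θ ≠ 0] :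
    ∑ χ ∈ Finset.univ.filter (fun χ : IrrCharacter G =>
        CfsgLib.Chars.Induced.mult (fun n : N => (χ : G → ℂ) n) θ ≠ 0),
      (χ : G → ℂ) a * conj ((χ : G → ℂ) b) = 0 := by
  classical
  set F := indFun N (θ : N → ℂ) with hF
  have hFc : IsCharacter G F :=
    CfsgLib.Chars.Induced.isCharacter_indFun N (CfsgLib.Chars.isCharacter_coe θ)
  have hFcl : IsClassFunction G F := CfsgLib.Chars.isClassFunction_of_isCharacter hFc
  -- the convolution acts by a scalar
  have hw : ∀ χ : IrrCharacter G, ∀ y : G,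
      (∑ n : G, conj (F n) * (χ : G → ℂ) (n * y)) * (χ : G → ℂ) 1 =
        ((Nat.card G : ℂ) * (CfsgLib.Chars.Induced.mult (fun n : N => (χ : G → ℂ) n) θ : ℂ)) *
          (χ : G → ℂ) y := by
    intro χ y
    obtain ⟨m, ρ, hρ, hχ⟩ := χ.2
    let z : Module.End ℂ (Fin m → ℂ) := ∑ n : G, conj (F n) • ρ n
    have hz : ∀ x, z * ρ x = ρ x * z := by
      intro x
      simp only [z, Finset.sum_mul, Finset.mul_sum, smul_mul_assoc, mul_smul_comm, ← map_mul]
      refine Fintype.sum_equiv (MulAut.conj x⁻¹).toEquiv _ _ fun n => ?_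
      show conj (F n) • ρ (n * x) = conj (F (x⁻¹ * n * x⁻¹⁻¹)) • ρ (x * (x⁻¹ * n * x⁻¹⁻¹))
      rw [hFcl n x⁻¹]
      congr 2
      group
    obtain ⟨c, hc⟩ := CfsgLib.Chars.Induced.exists_eq_smul_one_of_commute ρ hρ z hz
    have hsum : ∀ u : G, ∑ n : G, conj (F n) * (χ : G → ℂ) (n * u) = c * (χ : G → ℂ) u := by
      intro u
      have h1 := congrArg (fun T => LinearMap.trace ℂ (Fin m → ℂ) (T * ρ u)) hc
      simp only [z, Finset.sum_mul, smul_mul_assoc, ← map_mul, map_sum, map_smul, smul_eq_mul,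
        one_mul] at h1
      rw [← hχ]
      exact h1
    have h1 : c * (χ : G → ℂ) 1 =
        (Nat.card G : ℂ) * (CfsgLib.Chars.Induced.mult (fun n : N => (χ : G → ℂ) n) θ : ℂ) := by
      rw [← hsum 1, ← CfsgLib.Chars.Induced.mult_indFun_irr,
        ← CfsgLib.Chars.Induced.classInner_irr_left_eq_mult hFc, classInner, ← mul_assoc,
        mul_inv_cancel₀ (Nat.cast_ne_zero.2 Nat.card_pos.ne'), one_mul]
      exact Finset.sum_congr rfl fun n _ => by rw [mul_one, mul_comm]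
    rw [hsum, ← h1]
    ring
  -- the constant
  set S := Finset.univ.filter (fun χ : IrrCharacter G =>
    CfsgLib.Chars.Induced.mult (fun n : N => (χ : G → ℂ) n) θ ≠ 0) with hS
  let w : ℂ := (Nat.card G : ℂ) / (((inertia N (θ : N → ℂ)).index : ℂ) * (θ : N → ℂ) 1)
  have hw0 : w ≠ 0 := div_ne_zero (Nat.cast_ne_zero.2 Nat.card_pos.ne')
    (mul_ne_zero (Nat.cast_ne_zero.2 Subgroup.index_ne_zero_of_finite)
      (CfsgLib.Chars.map_one_ne_zero θ))
  have hconv : ∀ χ : IrrCharacter G, ∑ n : G, conj (F n) * (χ : G → ℂ) (n * b) =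
      if χ ∈ S then w * (χ : G → ℂ) b else 0 := by
    intro χ
    refine mul_right_cancel₀ (CfsgLib.Chars.map_one_ne_zero χ) ?_
    rw [hw χ b]
    by_cases hm : CfsgLib.Chars.Induced.mult (fun n : N => (χ : G → ℂ) n) θ = 0
    · rw [hm, if_neg (by simp [hS, hm])]
      simp
    · rw [if_pos (by simp [hS, hm]), CfsgLib.Chars.Induced.clifford_one χ θ hm]
      simp only [w]
      have h2 : ((inertia N (θ : N → ℂ)).index : ℂ) ≠ 0 :=
        Nat.cast_ne_zero.2 Subgroup.index_ne_zero_of_finite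
      have h3 := CfsgLib.Chars.map_one_ne_zero θ
      field_simp
  have hwr : conj w = w := by
    simp only [w, map_div₀, map_mul, map_natCast,
      CfsgLib.Chars.conj_map_one (CfsgLib.Chars.isCharacter_coe θ)]
  -- zero
  have h0 : ∑ χ : IrrCharacter G, (χ : G → ℂ) a *
      conj (∑ n : G, conj (F n) * (χ : G → ℂ) (n * b)) = 0 := by
    simp only [map_sum, map_mul, Complex.conj_conj, Finset.mul_sum]
    rw [Finset.sum_comm]
    refine Finset.sum_eq_zero fun n _ => ?_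
    by_cases hn : n ∈ N
    · simp only [mul_left_comm _ (F n), ← Finset.mul_sum, CfsgLib.Chars.sum_irr_mul_conj]
      rw [if_neg, mul_zero]
      intro hc
      apply hab
      have h1 := (QuotientGroup.mk' N).map_isConj hc
      simpa [(QuotientGroup.eq_one_iff n).2 hn] using h1
    · simp [hF, CfsgLib.Chars.Induced.indFun_normal_notMem _ hn]
  rw [Finset.sum_congr rfl (g := fun χ : IrrCharacter G =>
    if χ ∈ S then w * ((χ : G → ℂ) a * conj ((χ : G → ℂ) b)) else 0) (fun χ _ => by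
      rw [hconv χ]
      split_ifs
      · rw [map_mul, hwr]; ring
      · simp), ← Finset.sum_filter, Finset.filter_mem_eq_inter, Finset.univ_inter,
    ← Finset.mul_sum] at h0
  exact (mul_eq_zero.1 h0).resolve_left hw0

/-- Twisting by a power map prime to the order preserves irreducibility. -/
theorem isIrrCharacter_pow {k : ℕ} (hk : k.Coprime (Nat.card G)) (χ : IrrCharacter G) :
    IsIrrCharacter G fun g => (χ : G → ℂ) (g ^ k) := by
  obtain ⟨σ, hσ⟩ := CfsgLib.GaloisHom.exists_ringHom_char Nat.card_pos hk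
  rw [show (fun g => (χ : G → ℂ) (g ^ k)) = fun g => σ ((χ : G → ℂ) g) from
    funext fun g => (hσ (CfsgLib.Chars.isCharacter_coe χ) g (orderOf_dvd_natCard g)).symm]
  exact CfsgLib.Chars.isIrrCharacter_ringHom χ.2 σ

/-- In a quotient of odd order a power inverting odd order elements makes every non-trivial
element non-conjugate to its image. -/
theorem not_isConj_pow {k : ℕ} (hidx : Odd N.index) (hk₂ : ∀ g : G, Odd (orderOf g) → g ^ k = g⁻¹)
    {g : G} (hg : g ∉ N) : ¬ IsConj ((g ^ k : G) : G ⧸ N) (g : G ⧸ N) := by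
  have hq : Odd (orderOf (g : G ⧸ N)) := hidx.of_dvd_nat (orderOf_dvd_natCard _)
  obtain ⟨r, hr⟩ := hq
  have hinv : ((g ^ k : G) : G ⧸ N) = (g : G ⧸ N)⁻¹ := by
    set a := (orderOf g).factorization 2 with ha
    have hh : Odd (orderOf (g ^ 2 ^ a)) := by
      rw [orderOf_pow_of_dvd (by positivity) (Nat.ordProj_dvd _ 2), Nat.odd_iff,
        ← Nat.two_dvd_ne_zero]
      exact Nat.not_dvd_ordCompl Nat.prime_two (orderOf_pos g).ne'
    have h1 := congrArg (fun x : G => (x : G ⧸ N)) (hk₂ _ hh)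
    simp only [QuotientGroup.mk_pow, QuotientGroup.mk_inv, ← pow_mul, mul_comm _ k] at h1
    rw [pow_mul, ← inv_pow] at h1
    rw [QuotientGroup.mk_pow]
    have h3 : ((orderOf (g : G ⧸ N)).Coprime (2 ^ a)) :=
      Nat.Coprime.pow_right _ (Nat.coprime_two_right.2 ⟨r, hr⟩)
    obtain ⟨j, hj⟩ := exists_pow_eq_self_of_coprime (x := (g : G ⧸ N) ^ k)
      (h3.symm.coprime_dvd_right (orderOf_pow_dvd k))
    obtain ⟨j', hj'⟩ := exists_pow_eq_self_of_coprime (x := (g : G ⧸ N)⁻¹)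
      (h3.symm.coprime_dvd_right (by rw [orderOf_inv]))
    have h4 : ∀ i, (((g : G ⧸ N) ^ k) ^ 2 ^ a) ^ i = (((g : G ⧸ N)⁻¹) ^ 2 ^ a) ^ i := fun i => by
      rw [h1]
    rw [← hj, ← hj']
    obtain ⟨c, hc, hc'⟩ : ∃ c, ((((g : G ⧸ N) ^ k) ^ 2 ^ a) ^ c = (g : G ⧸ N) ^ k) ∧
        ((((g : G ⧸ N)⁻¹) ^ 2 ^ a) ^ c = (g : G ⧸ N)⁻¹) := by
      obtain ⟨c, hc⟩ := Nat.exists_mul_mod_eq_one_of_coprime h3.symm (by
        have : orderOf (g : G ⧸ N) ≠ 1 := fun h =>
          hg ((QuotientGroup.eq_one_iff g).1 (orderOf_eq_one_iff.1 h))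
        have := orderOf_pos (g : G ⧸ N)
        omega)
      have h5 : ∀ x : G ⧸ N, x ^ orderOf (g : G ⧸ N) = 1 → (x ^ 2 ^ a) ^ c = x := by
        intro x hx
        rw [← pow_mul, pow_eq_pow_mod _ hx, hc.2, pow_one]
      refine ⟨c, h5 _ ?_, h5 _ ?_⟩
      · rw [← pow_mul, mul_comm, pow_mul, pow_orderOf_eq_one, one_pow]
      · rw [inv_pow, pow_orderOf_eq_one, inv_one]
    rw [hj, hj', ← hc, h4, hc']
  rw [hinv]
  intro hc
  obtain ⟨x, hx⟩ := isConj_iff.1 hc
  have h2 : x * (g : G ⧸ N) * x⁻¹ = (g : G ⧸ N)⁻¹ := by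
    have hx' := congrArg Inv.inv hx
    simpa [mul_assoc] using hx'
  have h4 : x * x * (g : G ⧸ N) * (x * x)⁻¹ = (g : G ⧸ N) := by
    calc x * x * (g : G ⧸ N) * (x * x)⁻¹ = x * (x * (g : G ⧸ N) * x⁻¹) * x⁻¹ := by group
      _ = x * (g : G ⧸ N)⁻¹ * x⁻¹ := by rw [h2]
      _ = (g : G ⧸ N) := hx
  obtain ⟨t, ht⟩ := hidx.of_dvd_nat (orderOf_dvd_natCard x)
  have hcomm : Commute x (g : G ⧸ N) := by
    have h5 : Commute ((x * x) ^ (t + 1)) (g : G ⧸ N) :=
      (show Commute (x * x) (g : G ⧸ N) from mul_inv_eq_iff_eq_mul.1 h4).pow_left _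
    rwa [← pow_two, ← pow_mul, show 2 * (t + 1) = orderOf x + 1 by omega, pow_succ,
      pow_orderOf_eq_one, one_mul] at h5
  rw [hcomm.eq, mul_inv_cancel_right, eq_inv_iff_mul_eq_one] at h2
  have h6 : orderOf (g : G ⧸ N) ∣ 2 := orderOf_dvd_of_pow_eq_one (by rw [pow_two]; exact h2)
  have h7 := Nat.le_of_dvd two_pos h6
  exact hg ((QuotientGroup.eq_one_iff g).1 (orderOf_eq_one_iff.1 (by omega)))

/-- **Exactly one fixed character over a fixed character.** -/
theorem existsUnique_fixed_over {k : ℕ} (hidx : Odd N.index) (hk : k.Coprime (Nat.card G))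
    (hk₂ : ∀ g : G, Odd (orderOf g) → g ^ k = g⁻¹) (θ : IrrCharacter N)
    (hθ : ∀ n : N, (θ : N → ℂ) (n ^ k) = (θ : N → ℂ) n) :
    ∃! χ : IrrCharacter G, CfsgLib.Chars.Induced.mult (fun n : N => (χ : G → ℂ) n) θ ≠ 0 ∧
      ∀ g : G, (χ : G → ℂ) (g ^ k) = (χ : G → ℂ) g := by
  classical
  set S := Finset.univ.filter (fun χ : IrrCharacter G =>
    CfsgLib.Chars.Induced.mult (fun n : N => (χ : G → ℂ) n) θ ≠ 0) with hS
  set O := (Set.finite_range fun x : G => conjIrr x θ).toFinset with hO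
  let e : IrrCharacter G → ℕ := fun χ => CfsgLib.Chars.Induced.mult (fun n : N => (χ : G → ℂ) n) θ
  have hcliff : ∀ χ ∈ S, (fun n : N => (χ : G → ℂ) n) = (e χ : ℂ) • ∑ η ∈ O, (η : N → ℂ) :=
    fun χ hχ => CfsgLib.Chars.Induced.clifford χ θ (Finset.mem_filter.1 hχ).2
  have hpowO : ∀ η ∈ O, ∀ n : N, (η : N → ℂ) (n ^ k) = (η : N → ℂ) n := by
    intro η hη n
    obtain ⟨x, rfl⟩ := (Set.Finite.mem_toFinset _).1 hη
    show (θ : N → ℂ) ((MulAut.conjNormal x)⁻¹ (n ^ k)) = (θ : N → ℂ) ((MulAut.conjNormal x)⁻¹ n)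
    rw [map_pow, hθ]
  have hpowN : ∀ χ ∈ S, ∀ n : N, (χ : G → ℂ) ((n : G) ^ k) = (χ : G → ℂ) n := by
    intro χ hχ n
    have h1 := congrFun (hcliff χ hχ)
    rw [← Subgroup.coe_pow N n k, h1 (n ^ k), h1 n]
    simp only [Pi.smul_apply, Finset.sum_apply]
    rw [Finset.sum_congr rfl fun η hη => hpowO η hη n]
  let tw : IrrCharacter G → IrrCharacter G := fun χ => ⟨_, isIrrCharacter_pow hk χ⟩
  -- the trace
  have htr : ∑ χ ∈ S, classInner (tw χ : G → ℂ) (χ : G → ℂ) = 1 := by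
    simp only [classInner, ← Finset.mul_sum]
    rw [Finset.sum_comm, ← Finset.sum_filter_add_sum_filter_not Finset.univ (fun g => g ∈ N),
      Finset.sum_eq_zero (s := Finset.univ.filter fun g => ¬ g ∈ N) (fun g hg =>
        sum_over_eq_zero θ _ _ (not_isConj_pow hidx hk₂ (Finset.mem_filter.1 hg).2)), add_zero,
      Finset.sum_subtype (p := fun g : G => g ∈ N) (Finset.univ.filter fun g : G => g ∈ N)
        (fun g => by simp) (fun g => ∑ χ ∈ S, (tw χ : G → ℂ) g * conj ((χ : G → ℂ) g)),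
      Finset.sum_comm]
    have hN : (Nat.card N : ℂ) ≠ 0 := Nat.cast_ne_zero.2 Nat.card_pos.ne'
    have hone : ∀ χ ∈ S, ∑ n : N, (tw χ : G → ℂ) n * conj ((χ : G → ℂ) n) =
        (Nat.card N : ℂ) * ((e χ : ℂ) * (e χ : ℂ) * (O.card : ℂ)) := by
      intro χ hχ
      rw [Finset.sum_congr rfl (fun (n : N) _ => show (tw χ : G → ℂ) n * conj ((χ : G → ℂ) n) =
        (χ : G → ℂ) n * conj ((χ : G → ℂ) n) from
          congrArg (· * conj ((χ : G → ℂ) n)) (hpowN χ hχ n))]
      have h1 : classInner (fun n : N => (χ : G → ℂ) n) (fun n : N => (χ : G → ℂ) n) =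
          (e χ : ℂ) * (e χ : ℂ) * (O.card : ℂ) := by
        conv_lhs => rw [hcliff χ hχ]
        rw [CfsgLib.Chars.classInner_smul_left, ← CfsgLib.Chars.classInner_conj_symm,
          CfsgLib.Chars.classInner_smul_left, map_mul, map_natCast, ← mul_assoc]
        congr 1
        rw [CfsgLib.Chars.classInner_conj_symm, CfsgLib.Chars.classInner_sum_left,
          Finset.sum_congr rfl (g := fun _ => (1 : ℂ)) fun η hη => by
            rw [← CfsgLib.Chars.classInner_conj_symm,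
              CfsgLib.Chars.Induced.classInner_finset_irr, if_pos hη, map_one]]
        simp
      rw [← h1, classInner, ← mul_assoc, mul_inv_cancel₀ hN, one_mul]
    rw [Finset.sum_congr rfl hone, ← Finset.mul_sum]
    -- the degree of the induced character
    have hFc := CfsgLib.Chars.Induced.isCharacter_indFun N (CfsgLib.Chars.isCharacter_coe θ)
    obtain ⟨s, hmem, hs⟩ := CfsgLib.Chars.Induced.exists_eq_sum_mult hFc
    have hsS : s = S := by
      ext χ
      rw [hmem, CfsgLib.Chars.Induced.mult_indFun_irr]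
      simp [hS]
    have h2 : (N.index : ℂ) * (θ : N → ℂ) 1 =
        (∑ χ ∈ S, (e χ : ℂ) * (e χ : ℂ) * (O.card : ℂ)) * (θ : N → ℂ) 1 := by
      rw [← CfsgLib.Chars.Induced.indFun_one_apply]
      conv_lhs => rw [hs]
      rw [Finset.sum_apply, hsS, Finset.sum_mul]
      refine Finset.sum_congr rfl fun χ hχ => ?_
      have hO' : (O.card : ℂ) = ((inertia N (θ : N → ℂ)).index : ℂ) := by
        rw [← CfsgLib.Chars.Induced.card_conjOrbit, conjOrbit, Nat.card_coe_set_eq,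
          Set.ncard_eq_toFinset_card _ (Set.finite_range _)]
      rw [CfsgLib.Chars.Induced.mult_indFun_irr, Pi.smul_apply, smul_eq_mul,
        CfsgLib.Chars.Induced.clifford_one χ θ (Finset.mem_filter.1 hχ).2, hO']
      ring
    rw [← mul_right_cancel₀ (CfsgLib.Chars.map_one_ne_zero θ) h2, ← Subgroup.index_mul_card N,
      Nat.cast_mul]
    have hI : (N.index : ℂ) ≠ 0 := Nat.cast_ne_zero.2 Subgroup.index_ne_zero_of_finite
    field_simp
  rw [Finset.sum_congr rfl fun χ _ => CfsgLib.Chars.classInner_irr (tw χ) χ,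
    ← Finset.sum_filter, Finset.sum_const, nsmul_eq_mul, mul_one] at htr
  obtain ⟨χ, hχ⟩ := Finset.card_eq_one.1 (Nat.cast_eq_one.1 htr)
  have hmem : ∀ ψ : IrrCharacter G, ψ ∈ S.filter (fun χ => tw χ = χ) ↔
      (CfsgLib.Chars.Induced.mult (fun n : N => (ψ : G → ℂ) n) θ ≠ 0 ∧
        ∀ g : G, (ψ : G → ℂ) (g ^ k) = (ψ : G → ℂ) g) := fun ψ => by
    simp only [Finset.mem_filter, hS, Finset.mem_univ, true_and, tw, Subtype.ext_iff, funext_iff]
  exact ⟨χ, (hmem χ).1 (hχ ▸ Finset.mem_singleton_self χ), fun ψ hψ =>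
    Finset.mem_singleton.1 (hχ ▸ (hmem ψ).2 hψ)⟩

/-- Conjugates of a fixed character are fixed. -/
theorem conjFun_pow {k : ℕ} {θ : N → ℂ} (hθ : ∀ n : N, θ (n ^ k) = θ n) (x : G) (n : N) :
    conjFun N x θ (n ^ k) = conjFun N x θ n := by
  show θ ((MulAut.conjNormal x)⁻¹ (n ^ k)) = θ ((MulAut.conjNormal x)⁻¹ n)
  rw [map_pow, hθ]

end CfsgLib.Glauberman

namespace CfsgLib.Glauberman

open Cfsg
open CfsgLib.Chars.Induced (conjFun)

universe u

/-- In a quotient of prime power order a fixed invariant character has a fixed extension. -/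
theorem exists_fixed_extension_of_pGroup {p : ℕ} [Fact p.Prime] (n : ℕ) :
    ∀ {G : Type u} [Group G] [Fintype G] (N : Subgroup G) [N.Normal] [Fintype N] (k : ℕ),
    N.index = p ^ n → Odd N.index → k.Coprime (Nat.card G) →
    (∀ g : G, Odd (orderOf g) → g ^ k = g⁻¹) → ∀ θ : IrrCharacter N,
    (∀ m : N, (θ : N → ℂ) (m ^ k) = (θ : N → ℂ) m) →
    (∀ g : G, conjFun N g (θ : N → ℂ) = θ) →
    ∃ χ : IrrCharacter G, (∀ m : N, (χ : G → ℂ) m = (θ : N → ℂ) m) ∧
      ∀ g : G, (χ : G → ℂ) (g ^ k) = (χ : G → ℂ) g := by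
  induction n with
  | zero =>
    intro G _ _ N _ _ k hN hodd hk hk₂ θ hθ hinv
    obtain ⟨χ, ⟨hχ, hfix⟩, -⟩ := existsUnique_fixed_over hodd hk hk₂ θ hθ
    haveI : IsCyclic (G ⧸ N) := by
      haveI : Subsingleton (G ⧸ N) :=
        (Nat.card_eq_one_iff_unique.1 (show Nat.card (G ⧸ N) = 1 by rw [← pow_zero p, ← hN]; rfl)).1
      exact isCyclic_of_subsingleton
    exact ⟨χ, CfsgLib.Chars.Induced.restrict_eq_of_isCyclic θ hinv χ hχ, hfix⟩
  | succ n ih =>
    intro G _ _ N _ _ k hN hodd hk hk₂ θ hθ hinv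
    have hcardQ : Nat.card (G ⧸ N) = p ^ (n + 1) := hN
    obtain ⟨M₀, hM₀⟩ := Sylow.exists_subgroup_card_pow_prime p (n := n)
      (show p ^ n ∣ Nat.card (G ⧸ N) by rw [hcardQ, pow_succ]; exact dvd_mul_right _ _)
    have hM₀idx : M₀.index = p := by
      have h1 := M₀.card_mul_index
      rw [hM₀, hcardQ, pow_succ] at h1
      exact Nat.eq_of_mul_eq_mul_left (pow_pos (Fact.out : p.Prime).pos n) h1
    haveI hM₀n : M₀.Normal := Subgroup.normal_of_index_eq_minFac_card (by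
      rw [hM₀idx, hcardQ, (Fact.out : p.Prime).pow_minFac (Nat.succ_ne_zero n)])
    let M : Subgroup G := M₀.comap (QuotientGroup.mk' N)
    haveI : M.Normal := hM₀n.comap _
    have hMidx : M.index = p := by
      rw [Subgroup.index_comap_of_surjective _ (QuotientGroup.mk'_surjective N), hM₀idx]
    have hNM : N ≤ M := fun x hx => by
      show (x : G ⧸ N) ∈ M₀
      rw [(QuotientGroup.eq_one_iff x).2 hx]
      exact one_mem _
    haveI := Fintype.ofFinite M
    haveI := Fintype.ofFinite (N.subgroupOf M)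
    let eN : N.subgroupOf M ≃* N := Subgroup.subgroupOfEquivOfLe hNM
    let θM : IrrCharacter (N.subgroupOf M) := irrPull eN θ
    have hidxM : (N.subgroupOf M).index = p ^ n := by
      have h1 := Subgroup.relIndex_mul_index hNM
      rw [hMidx, hN, pow_succ] at h1
      exact Nat.eq_of_mul_eq_mul_right (Fact.out : p.Prime).pos h1
    have hk₂M : ∀ g : M, Odd (orderOf g) → g ^ k = g⁻¹ := fun g hg =>
      Subtype.ext (by simpa using hk₂ g.1 (by rwa [Subgroup.orderOf_coe]))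
    have hoddM : Odd (N.subgroupOf M).index := by
      rw [hidxM]
      rw [hN] at hodd
      exact hodd.of_dvd_nat (pow_dvd_pow p (Nat.le_succ n))
    have hkM : k.Coprime (Nat.card M) := hk.coprime_dvd_right (Subgroup.card_subgroup_dvd_card M)
    have hθM : ∀ m : N.subgroupOf M, (θM : N.subgroupOf M → ℂ) (m ^ k) = (θM : _ → ℂ) m :=
      fun m => by simp only [θM, irrPull_apply, map_pow, hθ]
    obtain ⟨ψ, hψ, hψfix⟩ := ih (N.subgroupOf M) k hidxM hoddM hkM hk₂M θM hθM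
      (CfsgLib.Chars.Induced.conjFun_eq_of_forall fun g m => by
        show (θ : N → ℂ) (eN _) = (θ : N → ℂ) (eN m)
        have h1 := congrFun (hinv (g.1)⁻¹) (eN m)
        rw [CfsgLib.Chars.Induced.conjFun_apply] at h1
        rw [← h1]
        refine congrArg (θ : N → ℂ) (Subtype.ext ?_)
        show g.1 * m.1.1 * g.1⁻¹ = g.1⁻¹⁻¹ * m.1.1 * g.1⁻¹
        rw [inv_inv])
    have hψinv : ∀ g : G, conjFun M g (ψ : M → ℂ) = ψ := by
      intro g
      have hu := existsUnique_fixed_over hoddM hkM hk₂M θM hθM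
      have hself : ∀ φ : IrrCharacter M, (∀ m : N.subgroupOf M, (φ : M → ℂ) m = (θM : _ → ℂ) m) →
          CfsgLib.Chars.Induced.mult (fun m : N.subgroupOf M => (φ : M → ℂ) m) θM ≠ 0 := by
        intro φ hφ
        rw [funext hφ, CfsgLib.Chars.Induced.mult_irr, if_pos rfl]
        exact one_ne_zero
      refine congrArg Subtype.val (hu.unique (y₁ := CfsgLib.Chars.Induced.conjIrr g ψ) (y₂ := ψ)
        ⟨hself _ fun m => ?_, fun x => conjFun_pow hψfix g x⟩ ⟨hself ψ hψ, hψfix⟩)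
      show (ψ : M → ℂ) ((MulAut.conjNormal g)⁻¹ (m : M)) = _
      have h1 := congrFun (hinv g) (eN m)
      rw [CfsgLib.Chars.Induced.conjFun_apply] at h1
      have hm : ((MulAut.conjNormal g)⁻¹ (m : M) : M) ∈ N.subgroupOf M := by
        show ((MulAut.conjNormal g)⁻¹ (m : M) : M).1 ∈ N
        rw [MulAut.conjNormal_inv_apply]
        simpa using (inferInstance : N.Normal).conj_mem _ m.2 g⁻¹
      rw [show (ψ : M → ℂ) ((MulAut.conjNormal g)⁻¹ (m : M)) = _ from hψ ⟨_, hm⟩]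
      simp only [θM, irrPull_apply]
      rw [← h1]
      exact congrArg (θ : N → ℂ) (Subtype.ext (MulAut.conjNormal_inv_apply g (m : M)))
    haveI : IsCyclic (G ⧸ M) := isCyclic_of_prime_card (p := p) (by rw [← hMidx]; rfl)
    have hoddM' : Odd M.index := hodd.of_dvd_nat (Subgroup.index_dvd_of_le hNM)
    obtain ⟨χ, ⟨hχ, hfix⟩, -⟩ := existsUnique_fixed_over hoddM' hk hk₂ ψ hψfix
    refine ⟨χ, fun m => ?_, hfix⟩
    have h1 := CfsgLib.Chars.Induced.restrict_eq_of_isCyclic ψ hψinv χ hχ ⟨m, hNM m.2⟩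
    rw [show (χ : G → ℂ) m = (χ : G → ℂ) ((⟨m, hNM m.2⟩ : M) : G) from rfl, h1]
    exact hψ ⟨⟨m, hNM m.2⟩, m.2⟩

/-- **A fixed invariant character has a fixed extension.** -/
theorem exists_fixed_extension {G : Type u} [Group G] [Fintype G] (N : Subgroup G) [N.Normal]
    [Fintype N] {k e : ℕ} (hodd : Odd N.index) (hk : k.Coprime (Nat.card G))
    (hke : k ^ (2 ^ e) ≡ 1 [MOD Nat.card G]) (hk₂ : ∀ g : G, Odd (orderOf g) → g ^ k = g⁻¹)
    (θ : IrrCharacter N) (hθ : ∀ m : N, (θ : N → ℂ) (m ^ k) = (θ : N → ℂ) m)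
    (hinv : ∀ (g : G) (m : N),
      (θ : N → ℂ) ⟨g * m * g⁻¹, ‹N.Normal›.conj_mem m m.2 g⟩ = (θ : N → ℂ) m) :
    ∃ χ : IrrCharacter G, (∀ m : N, (χ : G → ℂ) m = (θ : N → ℂ) m) ∧
      ∀ g : G, (χ : G → ℂ) (g ^ k) = (χ : G → ℂ) g := by
  classical
  obtain ⟨χ₀, hχ₀, hχ₀N⟩ := Cfsg.Agent.S0888.result N (θ : N → ℂ) θ.2 hinv fun p hp => by
    haveI := Fact.mk hp
    obtain ⟨Q₀⟩ : Nonempty (Sylow p (G ⧸ N)) := inferInstance
    let P : Subgroup G := (Q₀ : Subgroup (G ⧸ N)).comap (QuotientGroup.mk' N)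
    have hNP : N ≤ P := fun x hx => by
      show (x : G ⧸ N) ∈ (Q₀ : Subgroup (G ⧸ N))
      rw [(QuotientGroup.eq_one_iff x).2 hx]
      exact one_mem _
    haveI := Fintype.ofFinite P
    haveI := Fintype.ofFinite (N.subgroupOf P)
    have hidx : P.index = (Q₀ : Subgroup (G ⧸ N)).index :=
      Subgroup.index_comap_of_surjective _ (QuotientGroup.mk'_surjective N)
    have hrel : N.relIndex P = p ^ (Nat.card (G ⧸ N)).factorization p := by
      rw [← Q₀.card_eq_multiplicity]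
      have h1 := Subgroup.relIndex_mul_index hNP
      rw [hidx] at h1
      exact Nat.eq_of_mul_eq_mul_right (Nat.pos_of_ne_zero Subgroup.index_ne_zero_of_finite)
        (h1.trans (Q₀ : Subgroup (G ⧸ N)).card_mul_index.symm)
    let eN : N.subgroupOf P ≃* N := Subgroup.subgroupOfEquivOfLe hNP
    obtain ⟨η, hη, -⟩ := exists_fixed_extension_of_pGroup (p := p) _ (N.subgroupOf P) k hrel
      (show Odd (N.relIndex P) from hodd.of_dvd_nat (Dvd.intro _ (Subgroup.relIndex_mul_index hNP)))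
      (hk.coprime_dvd_right (Subgroup.card_subgroup_dvd_card P))
      (fun g hg => Subtype.ext (by simpa using hk₂ g.1 (by rwa [Subgroup.orderOf_coe])))
      (irrPull eN θ) (fun m => by simp only [irrPull_apply, map_pow, hθ])
      (CfsgLib.Chars.Induced.conjFun_eq_of_forall fun g m => hinv g.1 (eN m))
    refine ⟨P, hNP, (η : P → ℂ), ?_, ⟨_, hrel⟩, η.2, fun m => hη ⟨⟨m, hNP m.2⟩, m.2⟩⟩
    rw [hidx]
    exact ((Nat.Prime.coprime_iff_not_dvd hp).2 Q₀.not_dvd_index).symm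
  -- the extensions are permuted by a permutation of two-power order
  let E := {χ : IrrCharacter G // ∀ m : N, (χ : G → ℂ) m = (θ : N → ℂ) m}
  have hiter : ∀ (j : ℕ) (g : G) (χ : IrrCharacter G), (fun x => (χ : G → ℂ) (x ^ k)) =
      (χ : G → ℂ) → (χ : G → ℂ) (g ^ k ^ j) = (χ : G → ℂ) g := by
    intro j g χ h
    induction j with
    | zero => simp
    | succ j ih => rw [pow_succ, pow_mul, congrFun h, ih]
  let tw : E → E := fun χ => ⟨⟨_, isIrrCharacter_pow hk χ.1⟩, fun m => by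
    show (χ.1 : G → ℂ) ((m : G) ^ k) = _
    rw [← Subgroup.coe_pow, χ.2, hθ]⟩
  have htw : Function.Injective tw := by
    intro a b h
    refine Subtype.ext (Subtype.ext (funext fun g => ?_))
    obtain ⟨y, rfl⟩ := (powCoprime hk.symm).surjective g
    exact congrFun (congrArg (fun χ : E => (χ.1 : G → ℂ)) h) y
  let σ : Equiv.Perm E := Equiv.ofBijective tw (Finite.injective_iff_bijective.1 htw)
  have hσpow : ∀ (j : ℕ) (χ : E) (g : G), ((σ ^ j) χ).1.1 g = χ.1.1 (g ^ k ^ j) := by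
    intro j
    induction j with
    | zero => intro χ g; simp
    | succ j ih =>
      intro χ g
      rw [pow_succ', Equiv.Perm.mul_apply]
      show ((σ ^ j) χ).1.1 (g ^ k) = _
      rw [ih, ← pow_mul]
      congr 2
      ring
  have hσ : σ ^ 2 ^ e = 1 := Equiv.ext fun χ => Subtype.ext (Subtype.ext (funext fun g => by
    rw [hσpow]
    show χ.1.1 (g ^ k ^ 2 ^ e) = χ.1.1 g
    rw [pow_eq_pow_iff_modEq.2 (hke.of_dvd (orderOf_dvd_natCard g)), pow_one]))
  haveI := Fintype.ofFinite E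
  have hcard : Fintype.card E = Nat.card ((G ⧸ N) →* ℂˣ) := by
    rw [← Nat.card_eq_fintype_card]
    symm
    let χ₁ : IrrCharacter G := ⟨χ₀, hχ₀⟩
    have hχ₁ : ∀ m : N, (χ₁ : G → ℂ) m = (θ : N → ℂ) m := hχ₀N
    refine Nat.card_congr (Equiv.ofBijective (fun l => (⟨⟨_,
      CfsgLib.Chars.Induced.gallagher_isIrrCharacter χ₁ θ hχ₁ (CfsgLib.Chars.linChar l)⟩,
      fun m => by
        show (χ₁ : G → ℂ) m * ((l ((m : G) : G ⧸ N) : ℂˣ) : ℂ) = _
        rw [(QuotientGroup.eq_one_iff (m : G)).2 m.2, map_one, Units.val_one, mul_one, hχ₁]⟩ : E))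
      ⟨fun l l' h => CfsgLib.Chars.linChar_injective
        (CfsgLib.Chars.Induced.gallagher_injective χ₁ θ hχ₁ _ _ fun g =>
          congrFun (congrArg (fun χ : E => (χ.1 : G → ℂ)) h) g), fun χ => ?_⟩)
    obtain ⟨β, hβ⟩ := CfsgLib.Chars.Induced.gallagher_exists χ₁ θ hχ₁ χ.1 (by
      rw [CfsgLib.Chars.Induced.mult_ne_zero_iff (CfsgLib.Chars.isCharacter_restrict
        (CfsgLib.Chars.isCharacter_coe χ.1) N), funext χ.2, CfsgLib.Chars.classInner_self]
      exact one_ne_zero)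
    have h1 : (β : G ⧸ N → ℂ) 1 = 1 := by
      have h2 := congrFun hβ ((1 : N) : G)
      rw [χ.2, hχ₁, OneMemClass.coe_one, QuotientGroup.mk_one] at h2
      exact (mul_eq_left₀ (CfsgLib.Chars.map_one_ne_zero θ)).1 h2.symm
    obtain ⟨l, rfl⟩ := CfsgLib.Chars.exists_linChar_eq β h1
    exact ⟨l, Subtype.ext (Subtype.ext hβ.symm)⟩
  haveI := Fact.mk Nat.prime_two
  obtain ⟨χ, hχ⟩ := Equiv.Perm.exists_fixed_point_of_prime (p := 2) (n := e) (by
    rw [hcard, CfsgLib.Chars.card_monoidHom_units, Nat.two_dvd_ne_zero, ← Nat.odd_iff]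
    exact Odd.of_dvd_nat hodd (Subgroup.index_dvd_card _)) hσ
  exact ⟨χ.1, χ.2, fun g => congrFun (congrArg (fun χ : E => (χ.1 : G → ℂ)) hχ) g⟩

end CfsgLib.Glauberman
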