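import Cfsg.Agent.Glauberman.Over
import Cfsg.Agent.Glauberman.Constituent
import Cfsg.Agent.Chars.Induced.Covering
import Cfsg.Agent.Chars.Induced.Gallagher
import Cfsg.Agent.Chars.Basic.Linear
import Mathlib.GroupTheory.SchurZassenhaus

/-!
# Invariant characters in coprime layers

An invariant character over a central subgroup of a normal subgroup of coprime solvable index,
and the passage to an arbitrary invariant character of a normal subgroup by a covering group.
-/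

set_option autoImplicit false

namespace CfsgLib.Glauberman

open Cfsg MulAction

universe u

/-- A character whose restriction is irreducible is irreducible. -/
theorem isIrrCharacter_of_restrict {G H : Type*} [Group G] [Group H] [Fintype G] [Fintype H]
    (f : H →* G) {χ : G → ℂ} (hχ : IsCharacter G χ) (θ : IrrCharacter H)
    (h : ∀ x, χ (f x) = (θ : H → ℂ) x) : IsIrrCharacter G χ := by
  classical
  obtain ⟨s, hmem, hs⟩ := CfsgLib.Chars.Induced.exists_eq_sum_mult hχ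
  have hθ : (fun x => χ (f x)) = (θ : H → ℂ) := funext h
  have hval : ∀ ξ : IrrCharacter H, (∑ η ∈ s, CfsgLib.Chars.Induced.mult χ η *
      CfsgLib.Chars.Induced.mult (fun x => (η : G → ℂ) (f x)) ξ) = if θ = ξ then 1 else 0 := by
    intro ξ
    rw [← CfsgLib.Chars.Induced.mult_restrict_eq_sum f hχ hs, hθ, CfsgLib.Chars.Induced.mult_irr]
  have hpos : ∀ η ∈ s, 1 ≤ CfsgLib.Chars.Induced.mult χ η *
      CfsgLib.Chars.Induced.mult (fun x => (η : G → ℂ) (f x)) θ := by
    intro η hη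
    have hm := (hmem η).1 hη
    obtain ⟨ξ, hξ⟩ := CfsgLib.Chars.Induced.exists_mult_ne_zero
      (CfsgLib.Chars.isCharacter_comp (CfsgLib.Chars.isCharacter_coe η) f) fun h0 => by
        have h1 := congrFun h0 1
        rw [map_one, Pi.zero_apply] at h1
        exact CfsgLib.Chars.map_one_ne_zero η h1
    by_cases hθξ : θ = ξ
    · subst hθξ
      exact Nat.pos_of_ne_zero (Nat.mul_ne_zero_iff.2 ⟨hm, hξ⟩)
    · have h0 := hval ξ
      rw [if_neg hθξ, Finset.sum_eq_zero_iff] at h0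
      exact absurd (h0 η hη) (Nat.mul_ne_zero_iff.2 ⟨hm, hξ⟩)
  have h1 := hval θ
  rw [if_pos rfl] at h1
  have hc : s.card ≤ 1 := by
    refine le_of_le_of_eq ?_ h1
    rw [Finset.card_eq_sum_ones]
    exact Finset.sum_le_sum fun i hi => hpos i hi
  rcases s.eq_empty_or_nonempty with rfl | ⟨η, hη⟩
  · simp at h1
  · have hs' : s = {η} := Finset.eq_singleton_iff_unique_mem.2
      ⟨hη, fun x hx => Finset.card_le_one.1 hc x hx η hη⟩
    rw [hs', Finset.sum_singleton] at h1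
    rw [hs', Finset.sum_singleton, Nat.eq_one_of_mul_eq_one_right h1, Nat.cast_one, one_smul] at hs
    exact hs ▸ η.2

/-- **An invariant character over a linear character of a central subgroup.** -/
theorem exists_fixed_over_central {X : Type u} [Group X] [Finite X] (H Z : Subgroup X)
    [hH : H.Normal] (hZH : Z ≤ H) (hZc : Z ≤ Subgroup.center X)
    (hcop : H.index.Coprime (Z.relIndex H)) [Group.IsSolvable (X ⧸ H)] (l : Z →* ℂˣ) :
    ∃ β : IrrCharacter H,
      (∀ (z : Z) (h : H), (β : H → ℂ) (⟨z.1, hZH z.2⟩ * h) = (l z : ℂ) * (β : H → ℂ) h) ∧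
      ∀ (x : X) (h : H),
        (β : H → ℂ) ⟨x * h * x⁻¹, hH.conj_mem h h.2 x⟩ = (β : H → ℂ) h := by
  classical
  set m := H.index with hm
  have hcz : ∀ z ∈ Z, ∀ x : X, x * z = z * x := fun z hz => Subgroup.mem_center_iff.1 (hZc hz)
  -- the part of `Z` at the primes of `m`
  let P : Subgroup X :=
    { carrier := {z | z ∈ Z ∧ ∃ j : ℕ, z ^ m ^ j = 1}
      one_mem' := ⟨Z.one_mem, 0, by simp⟩
      mul_mem' := by
        rintro a b ⟨ha, i, hi⟩ ⟨hb, j, hj⟩
        refine ⟨Z.mul_mem ha hb, i + j, ?_⟩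
        rw [(show Commute a b from hcz b hb a).mul_pow, pow_add]
        conv_lhs => rw [pow_mul, hi, one_pow, one_mul, mul_comm, pow_mul, hj, one_pow]
      inv_mem' := by
        rintro a ⟨ha, i, hi⟩
        exact ⟨Z.inv_mem ha, i, by rw [inv_pow, hi, inv_one]⟩ }
  have hPZ : P ≤ Z := fun z hz => hz.1
  have hPH : P ≤ H := hPZ.trans hZH
  haveI hPn : P.Normal := ⟨fun p hp x => by
    rw [hcz p (hPZ hp) x, mul_inv_cancel_right]; exact hp⟩
  -- prime divisors
  have hP1 : ∀ q : ℕ, q.Prime → q ∣ Nat.card P → q ∣ m := by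
    intro q hq hd
    haveI := Fact.mk hq
    obtain ⟨⟨y, hyZ, j, hj⟩, hy⟩ := exists_prime_orderOf_dvd_card' q hd
    rw [← Subgroup.orderOf_coe] at hy
    exact hq.dvd_of_dvd_pow (hy ▸ orderOf_dvd_of_pow_eq_one hj)
  have hP2 : ∀ q : ℕ, q.Prime → q ∣ P.relIndex Z → ¬ q ∣ m := by
    intro q hq hd hqm
    haveI := Fact.mk hq
    obtain ⟨y, hy⟩ := exists_prime_orderOf_dvd_card' q
      (show q ∣ Nat.card (Z ⧸ P.subgroupOf Z) from hd)
    obtain ⟨z, rfl⟩ := QuotientGroup.mk_surjective y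
    have h1 : ((z ^ q : Z) : Z ⧸ P.subgroupOf Z) = 1 := by
      rw [QuotientGroup.mk_pow, ← hy, pow_orderOf_eq_one]
    obtain ⟨-, j, hj⟩ := (QuotientGroup.eq_one_iff _).1 h1
    obtain ⟨t, ht⟩ := hqm
    refine hq.one_lt.ne' (hy.symm.trans ?_)
    rw [orderOf_eq_one_iff]
    refine (QuotientGroup.eq_one_iff z).2 ⟨z.2, j + 1, ?_⟩
    replace hj : (z.1 ^ q) ^ m ^ j = 1 := hj
    calc (z : X) ^ m ^ (j + 1) = ((z.1 ^ q) ^ m ^ j) ^ t := by
          rw [pow_succ, ← pow_mul, ← pow_mul]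
          congr 1
          rw [ht]; ring
      _ = 1 := by rw [hj, one_pow]
  have hb : ∀ q : ℕ, q.Prime → q ∣ P.relIndex H → ¬ q ∣ m := by
    intro q hq hd hqm
    rw [← Subgroup.relIndex_mul_relIndex P Z H hPZ hZH] at hd
    rcases hq.dvd_mul.1 hd with h | h
    · exact hP2 q hq h hqm
    · exact hq.not_dvd_one (hcop ▸ Nat.dvd_gcd hqm h)
  -- the complement
  have hcard : Nat.card (P.subgroupOf H) = Nat.card P :=
    Nat.card_congr (Subgroup.subgroupOfEquivOfLe hPH).toEquiv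
  obtain ⟨K₀, hK₀⟩ := Subgroup.exists_right_complement'_of_coprime (N := P.subgroupOf H) (by
    rw [hcard]
    exact Nat.coprime_of_dvd fun q hq h h' => hb q hq h' (hP1 q hq h))
  have hK₀card : Nat.card K₀ = P.relIndex H := hK₀.symm.index_eq_card.symm
  let f : P × K₀ →* H :=
    { toFun := fun pk => ⟨pk.1.1, hPH pk.1.2⟩ * pk.2.1
      map_one' := Subtype.ext (by simp)
      map_mul' := fun a b => Subtype.ext (by
        simp only [Prod.fst_mul, Prod.snd_mul, Subgroup.coe_mul]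
        calc (a.1 : X) * b.1 * ((a.2 : H) * (b.2 : H))
            = a.1 * ((b.1 : X) * a.2.1) * b.2.1 := by simp [mul_assoc]
          _ = a.1 * ((a.2.1 : X) * b.1) * b.2.1 := by rw [hcz _ (hPZ b.1.2) (a.2.1 : X)]
          _ = _ := by simp [mul_assoc]) }
  have hfbij : Function.Bijective f := by
    constructor
    · intro a b h
      have h' := hK₀.1 (a₁ := (⟨⟨⟨a.1.1, hPH a.1.2⟩, a.1.2⟩, a.2⟩ : (P.subgroupOf H) × K₀))
        (a₂ := (⟨⟨⟨b.1.1, hPH b.1.2⟩, b.1.2⟩, b.2⟩ : (P.subgroupOf H) × K₀)) h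
      simp only [Prod.mk.injEq] at h'
      exact Prod.ext (Subtype.ext (congrArg (fun y : P.subgroupOf H => (y.1 : X)) h'.1)) h'.2
    · intro h
      obtain ⟨⟨p, k⟩, hpk⟩ := hK₀.2 h
      exact ⟨(⟨p.1.1, p.2⟩, k), hpk⟩
  let e : P × K₀ ≃* H := MulEquiv.ofBijective f hfbij
  let K : Subgroup X := K₀.map H.subtype
  have hKH : K ≤ H := by
    rintro _ ⟨k, -, rfl⟩
    exact k.2
  have hKcard : Nat.card K = P.relIndex H := by
    rw [← hK₀card]
    exact (Nat.card_congr (K₀.equivMapOfInjective H.subtype Subtype.coe_injective).toEquiv).symm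
  have hdec : ∀ h : H, (h : X) = ((e.symm h).1 : X) * ((e.symm h).2.1 : X) := fun h =>
    congrArg Subtype.val (e.apply_symm_apply h).symm
  -- elements of order dividing `b`
  have hPpow : ∀ p : P, p ^ P.relIndex H = 1 → p = 1 := by
    intro p hp
    have h1 : (orderOf p).Coprime (P.relIndex H) := Nat.Coprime.coprime_dvd_left
      (orderOf_dvd_natCard p) (Nat.coprime_of_dvd fun q hq h h' => hb q hq h' (hP1 q hq h))
    exact orderOf_eq_one_iff.1 (Nat.Coprime.eq_one_of_dvd h1 (orderOf_dvd_of_pow_eq_one hp))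
  have hKiff : ∀ h : H, h.1 ^ P.relIndex H = 1 → (h : X) ∈ K := by
    intro h hh
    have h2 : (e.symm h) ^ P.relIndex H = 1 := by
      rw [← map_pow, show h ^ P.relIndex H = 1 from Subtype.ext (by simpa using hh), map_one]
    have h3 : (e.symm h).1 = 1 := hPpow _ (congrArg Prod.fst h2)
    rw [hdec h, h3]
    exact ⟨(e.symm h).2.1, (e.symm h).2.2, by simp⟩
  have hKpow : ∀ k ∈ K, k ^ P.relIndex H = 1 := by
    intro k hk
    rw [← hKcard]
    exact congrArg Subtype.val (pow_card_eq_one' (x := (⟨k, hk⟩ : K)))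
  haveI hKn : K.Normal := ⟨fun k hk x => hKiff ⟨x * k * x⁻¹, hH.conj_mem k (hKH hk) x⟩ (by
    show (x * k * x⁻¹) ^ P.relIndex H = 1
    rw [conj_pow, hKpow k hk, mul_one, mul_inv_cancel])⟩
  -- a solvable complement of `K`
  have hKidx : K.index = Nat.card P * m := by
    have h1 := K.card_mul_index
    rw [← H.card_mul_index, ← Subgroup.relIndex_bot_left H,
      ← Subgroup.relIndex_mul_relIndex ⊥ P H bot_le hPH, Subgroup.relIndex_bot_left, hKcard] at h1
    refine Nat.eq_of_mul_eq_mul_left (Nat.pos_of_ne_zero (hKcard ▸ Nat.card_pos.ne')) ?_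
    rw [h1, hm]; ring
  have hcopK : (Nat.card K).Coprime K.index := by
    rw [hKcard, hKidx]
    exact Nat.coprime_of_dvd fun q hq h h' =>
      hb q hq h ((hq.dvd_mul.1 h').elim (hP1 q hq) id)
  obtain ⟨S, hS⟩ := Subgroup.exists_right_complement'_of_coprime (N := K) hcopK
  haveI : Group.IsSolvable S := by
    let φ : S →* X ⧸ H := (QuotientGroup.mk' H).comp S.subtype
    let ψ : φ.ker →* P :=
      (MonoidHom.fst P K₀).comp (e.symm.toMonoidHom.comp
        { toFun := fun s => ⟨s.1.1, (QuotientGroup.eq_one_iff (s.1.1 : X)).1 s.2⟩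
          map_one' := rfl
          map_mul' := fun _ _ => rfl })
    have hψ : Function.Injective ψ := by
      refine (injective_iff_map_eq_one ψ).2 fun s hs => ?_
      set h : H := ⟨s.1.1, (QuotientGroup.eq_one_iff (s.1.1 : X)).1 s.2⟩ with hh
      have h1 : (h : X) ∈ K := by
        rw [hdec h, show (e.symm h).1 = 1 from hs]
        exact ⟨(e.symm h).2.1, (e.symm h).2.2, by simp⟩
      have h2 : (h : X) ∈ K ⊓ S := ⟨h1, s.1.2⟩
      rw [hS.disjoint.eq_bot, Subgroup.mem_bot] at h2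
      exact Subtype.ext (Subtype.ext h2)
    haveI : Group.IsSolvable P := Group.isSolvable_of_comm fun a b =>
      Subtype.ext (hcz b.1 (hPZ b.2) a.1)
    haveI : Group.IsSolvable φ.ker := Group.isSolvable_of_isSolvable_injective (f := ψ) hψ
    exact Group.isSolvable_of_ker_le_range φ.ker.subtype φ (Subgroup.range_subtype φ.ker).ge
  haveI := Fintype.ofFinite K
  letI := conjSubAction K S fun s _ k hk => hKn.conj_mem k hk s
  let M : Subgroup K := Z.subgroupOf K
  haveI : Fintype M := Fintype.ofFinite _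
  haveI : M.Normal := ⟨fun z hz k => by
    have : k * z * k⁻¹ = z := Subtype.ext (by
      simp only [Subgroup.coe_mul, Subgroup.coe_inv]
      rw [hcz z.1 hz k.1, mul_inv_cancel_right])
    rw [this]; exact hz⟩
  let lM : M →* ℂˣ := l.comp
    { toFun := fun z => ⟨z.1.1, z.2⟩
      map_one' := rfl
      map_mul' := fun _ _ => rfl }
  have hfixM : ∀ (s : S) (z : M), (s • z.1 : K) = z.1 := fun s z => Subtype.ext (by
    show s.1 * z.1.1 * s.1⁻¹ = z.1.1
    rw [hcz z.1.1 z.2 s.1, mul_inv_cancel_right])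
  obtain ⟨χ, hχ, hχl⟩ := exists_fixed_over (Nat.card S) S rfl K M (by
      rw [← hS.symm.index_eq_card]; exact hcopK)
    (fun s z hz => by rw [hfixM s ⟨z, hz⟩]; exact hz) (CfsgLib.Chars.linChar lM)
    (fun s z z' h => by rw [show z' = z from Subtype.ext (h.trans (hfixM s z))])
  -- the scalar on `M`
  have hscal : ∀ (z : M) (k : K), (χ : K → ℂ) (z.1 * k) = (lM z : ℂ) * (χ : K → ℂ) k := by
    intro z k
    have hzc : z.1 ∈ Subgroup.center K :=
      Subgroup.mem_center_iff.2 fun g => Subtype.ext (hcz _ z.2 g.1)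
    rw [CfsgLib.Chars.map_mul_of_mem_center χ hzc k]
    congr 1
    set w := (χ : K → ℂ) z.1 / (χ : K → ℂ) 1 with hw
    have hsum : classInner (fun y : M => (χ : K → ℂ) y) (CfsgLib.Chars.linChar lM : M → ℂ) =
        w * starRingEnd ℂ (lM z : ℂ) *
          classInner (fun y : M => (χ : K → ℂ) y) (CfsgLib.Chars.linChar lM : M → ℂ) := by
      conv_lhs => rw [classInner, ← Equiv.sum_comp (Equiv.mulLeft z)]
      conv_rhs => rw [classInner]
      simp only [Finset.mul_sum]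
      refine Finset.sum_congr rfl fun y _ => ?_
      simp only [Equiv.coe_mulLeft, Subgroup.coe_mul, CfsgLib.Chars.linChar_apply, map_mul,
        Units.val_mul]
      rw [CfsgLib.Chars.map_mul_of_mem_center χ hzc]
      ring
    have hne : classInner (fun y : M => (χ : K → ℂ) y) (CfsgLib.Chars.linChar lM : M → ℂ) ≠ 0 := by
      intro h0
      exact hχl (mult_eq_of_classInner_eq M.subtype χ _ (by rw [Nat.cast_zero]; exact h0))
    have h1 : w * starRingEnd ℂ (lM z : ℂ) = 1 := (mul_eq_right₀ hne).1 hsum.symm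
    have h2 : (lM z : ℂ) * starRingEnd ℂ (lM z : ℂ) = 1 := by
      have h3 : (lM z : ℂ) ^ Nat.card M = 1 := by
        rw [← Units.val_pow_eq_pow_val, ← map_pow, pow_card_eq_one', map_one, Units.val_one]
      rw [Complex.mul_conj', Complex.norm_eq_one_of_pow_eq_one h3 Nat.card_pos.ne']
      norm_num
    exact mul_right_cancel₀ (right_ne_zero_of_mul_eq_one h1) (h1.trans h2.symm)
  -- the projections
  let q : H →* K :=
    ((H.subtype.comp (K₀.subtype.comp ((MonoidHom.snd P K₀).comp e.symm.toMonoidHom))).codRestrict K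
      fun h => ⟨(e.symm h).2.1, (e.symm h).2.2, rfl⟩)
  have hq : Function.Surjective q := by
    rintro ⟨_, k, hk, rfl⟩
    refine ⟨e (1, ⟨k, hk⟩), Subtype.ext ?_⟩
    show ((e.symm (e (1, (⟨k, hk⟩ : K₀)))).2.1 : X) = k.1
    rw [MulEquiv.symm_apply_apply]
  let p : H →* Z := (Subgroup.inclusion hPZ).comp ((MonoidHom.fst P K₀).comp e.symm.toMonoidHom)
  have hpq : ∀ h : H, (h : X) = (p h : X) * (q h : X) := hdec
  let β : IrrCharacter H := ⟨fun h => (l (p h) : ℂ) * (χ : K → ℂ) (q h),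
    CfsgLib.Chars.isIrrCharacter_linear_mul (CfsgLib.Chars.isIrrCharacter_comp χ.2 q hq)
      (l.comp p)⟩
  have hβ : ∀ h : H, (β : H → ℂ) h = (l (p h) : ℂ) * (χ : K → ℂ) (q h) := fun _ => rfl
  refine ⟨β, fun z h => ?_, fun x h => ?_⟩
  · set h₀ : H := ⟨z.1, hZH z.2⟩ with hh₀
    have hqz : (q h₀ : X) ∈ Z := by
      rw [show (q h₀ : X) = (p h₀ : X)⁻¹ * z.1 by rw [eq_inv_mul_iff_mul_eq]; exact (hpq h₀).symm]
      exact mul_mem (inv_mem (p h₀).2) z.2
    have hz : z = p h₀ * ⟨(q h₀ : X), hqz⟩ := Subtype.ext (hpq h₀)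
    rw [hβ, hβ, map_mul p, map_mul q, show q h₀ * q h = (⟨q h₀, hqz⟩ : M).1 * q h from rfl,
      hscal]
    conv_rhs => rw [hz]
    simp only [map_mul, Units.val_mul]
    rw [show lM ⟨q h₀, hqz⟩ = l ⟨(q h₀ : X), hqz⟩ from rfl]
    ring
  · set h' : H := ⟨x * h * x⁻¹, hH.conj_mem h h.2 x⟩
    have hkk : x * (q h : X) * x⁻¹ ∈ K := hKn.conj_mem _ (q h).2 x
    obtain ⟨k₁, hk₁, hk₁e⟩ := hkk
    have he : e.symm h' = ((e.symm h).1, ⟨k₁, hk₁⟩) := by
      rw [MulEquiv.symm_apply_eq]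
      refine Subtype.ext ?_
      show x * h.1 * x⁻¹ = ((e.symm h).1 : X) * k₁.1
      rw [show k₁.1 = x * (q h : X) * x⁻¹ from hk₁e, hdec h, ← mul_assoc x,
        hcz _ (hPZ (e.symm h).1.2) x]
      simp [mul_assoc]
      rfl
    have hp' : p h' = p h := Subtype.ext (by
      show ((e.symm h').1 : X) = ((e.symm h).1 : X)
      rw [he])
    have hq' : (q h' : X) = x * (q h : X) * x⁻¹ := by
      rw [← hk₁e]
      exact congrArg (fun y : P × K₀ => (y.2.1 : X)) he
    rw [hβ, hβ, hp']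
    congr 1
    obtain ⟨⟨k, s⟩, hks⟩ := hS.2 x
    have h1 : q h' = k * (s • q h) * k⁻¹ := Subtype.ext (by
      show (q h' : X) = k.1 * (s.1 * (q h : X) * s.1⁻¹) * k.1⁻¹
      rw [hq', ← hks]
      group)
    rw [h1, CfsgLib.Chars.isClassFunction_coe χ _ k]
    exact (mem_fixed_iff χ).1 hχ s (q h)


/-- **An invariant character above, in coprime layers with solvable upper layer.** -/
theorem exists_invariant_above_of_solvable_top {Γ : Type u} [Group Γ] [Finite Γ] (G N : Subgroup Γ)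
    [hG : G.Normal] [hN : N.Normal] [Fintype N] (hNG : N ≤ G)
    (hcop : (G.index).Coprime (N.relIndex G)) [Group.IsSolvable (Γ ⧸ G)] (θ : IrrCharacter N)
    (hinv : ∀ (x : Γ) (n : N),
      (θ : N → ℂ) ⟨x * n * x⁻¹, hN.conj_mem n n.2 x⟩ = (θ : N → ℂ) n) :
    ∃ χ : IrrCharacter G, classInner (fun n : N => (χ : G → ℂ) ⟨n, hNG n.2⟩) (θ : N → ℂ) ≠ 0 ∧
      ∀ (x : Γ) (g : G),
        (χ : G → ℂ) ⟨x * g * x⁻¹, hG.conj_mem g g.2 x⟩ = (χ : G → ℂ) g := by
  classical
  obtain ⟨E, _, _, π, j, hπ, hj, hjn, hker, χ₀, hχ₀⟩ :=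
    CfsgLib.Chars.Induced.exists_covering_extension θ
      (CfsgLib.Chars.Induced.conjFun_eq_of_forall hinv)
  let R : Subgroup E := j.range
  haveI : R.Normal := hjn
  let mk : E →* E ⧸ R := QuotientGroup.mk' R
  have hmk : Function.Surjective mk := QuotientGroup.mk'_surjective R
  set U : Subgroup E := G.comap π with hU
  have hRU : R ≤ U := by
    rintro _ ⟨n, rfl⟩
    show π (j n) ∈ G
    rw [hj]
    exact hNG n.2
  have hKU : π.ker ≤ U := fun y hy => by
    show π y ∈ G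
    rw [show π y = 1 from hy]
    exact G.one_mem
  let H : Subgroup (E ⧸ R) := U.map mk
  haveI hUn : U.Normal := hG.comap π
  haveI hH : H.Normal := hUn.map mk hmk
  let Z : Subgroup (E ⧸ R) := π.ker.map mk
  have hZH : Z ≤ H := Subgroup.map_mono hKU
  have hZc : Z ≤ Subgroup.center (E ⧸ R) := by
    rintro _ ⟨y, hy, rfl⟩
    refine Subgroup.mem_center_iff.2 (hmk.forall.2 fun x => ?_)
    rw [← map_mul, ← map_mul, Subgroup.mem_center_iff.1 (hker hy) x]
  have hcomapH : H.comap mk = U :=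
    Subgroup.comap_map_eq_self (by rw [QuotientGroup.ker_mk']; exact hRU)
  have hcomapZ : Z.comap mk = N.comap π := by
    rw [Subgroup.comap_map_eq, QuotientGroup.ker_mk']
    refine le_antisymm (sup_le (fun y hy => ?_) ?_) fun y hy => ?_
    · show π y ∈ N
      rw [show π y = 1 from hy]
      exact N.one_mem
    · rintro _ ⟨n, rfl⟩
      show π (j n) ∈ N
      rw [hj]
      exact n.2
    · rw [show y = y * (j ⟨π y, hy⟩)⁻¹ * j ⟨π y, hy⟩ by group]
      refine Subgroup.mul_mem_sup ?_ ⟨_, rfl⟩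
      show π (y * (j ⟨π y, hy⟩)⁻¹) = 1
      rw [map_mul, map_inv, hj, mul_inv_cancel]
  have hidx : H.index = G.index := by
    rw [← Subgroup.index_comap_of_surjective H hmk, hcomapH, hU,
      Subgroup.index_comap_of_surjective G hπ]
  have hrel : Z.relIndex H = N.relIndex G := by
    rw [← Subgroup.relIndex_comap Z mk U, hcomapZ, hU, Subgroup.relIndex_comap,
      Subgroup.map_comap_eq_self_of_surjective hπ]
  haveI : Group.IsSolvable ((E ⧸ R) ⧸ H) := by
    refine Group.isSolvable_of_isSolvable_injective (f := QuotientGroup.lift H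
      (QuotientGroup.lift R ((QuotientGroup.mk' G).comp π) fun r hr =>
        (QuotientGroup.eq_one_iff (π r)).2 (hRU hr)) ?_) ?_
    · rintro _ ⟨u, hu, rfl⟩
      exact (QuotientGroup.eq_one_iff (π u)).2 hu
    · refine (injective_iff_map_eq_one _).2 fun a ha => ?_
      obtain ⟨a, rfl⟩ := QuotientGroup.mk_surjective a
      obtain ⟨a, rfl⟩ := QuotientGroup.mk_surjective a
      exact (QuotientGroup.eq_one_iff _).2 ⟨a, (QuotientGroup.eq_one_iff (π a)).1 ha, rfl⟩
  -- the scalar of `χ₀` on the kernel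
  have hsc : ∀ y : π.ker, ∃ c : ℂ, ∀ g : E, (χ₀ : E → ℂ) (y * g) = c * (χ₀ : E → ℂ) g := fun y =>
    CfsgLib.Chars.exists_scalar_of_mem_center χ₀ (hker y.2)
  choose c hc using hsc
  have hcmul : ∀ a b, c (a * b) = c a * c b := fun a b => by
    refine mul_right_cancel₀ (CfsgLib.Chars.map_one_ne_zero χ₀) ?_
    rw [← hc (a * b) 1, mul_assoc (c a), ← hc b 1, ← hc a]
    simp [mul_assoc]
  have hcone : c 1 = 1 := by
    refine mul_right_cancel₀ (CfsgLib.Chars.map_one_ne_zero χ₀) ?_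
    rw [← hc 1 1]
    simp
  let cHom : π.ker →* ℂˣ := MonoidHom.toHomUnits
    { toFun := c, map_one' := hcone, map_mul' := hcmul }
  let φ : π.ker →* Z := mk.subgroupMap π.ker
  have hφ : Function.Bijective φ := by
    refine ⟨(injective_iff_map_eq_one φ).2 fun y hy => ?_, mk.subgroupMap_surjective π.ker⟩
    obtain ⟨n, hn⟩ := (QuotientGroup.eq_one_iff (y : E)).1 (congrArg Subtype.val hy)
    have h1 : (n : Γ) = 1 := by rw [← hj n, hn]; exact y.2
    refine Subtype.ext ?_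
    rw [← hn, show n = 1 from Subtype.ext h1, map_one]
    rfl
  let l : Z →* ℂˣ := (cHom.comp (MulEquiv.ofBijective φ hφ).symm.toMonoidHom)⁻¹
  have hl : ∀ y : π.ker, (l (φ y) : ℂ) * c y = 1 := by
    intro y
    have h : (MulEquiv.ofBijective φ hφ).symm (φ y) = y :=
      (MulEquiv.ofBijective φ hφ).symm_apply_apply y
    show (((cHom ((MulEquiv.ofBijective φ hφ).symm (φ y)))⁻¹ : ℂˣ) : ℂ) * c y = 1
    rw [h]
    exact Units.inv_mul (cHom y)
  obtain ⟨β, hβZ, hβinv⟩ := exists_fixed_over_central H Z hZH hZc (hidx ▸ hrel ▸ hcop) l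
  -- the character of `U`
  haveI := Fintype.ofFinite U
  haveI := Fintype.ofFinite E
  let R' : Subgroup U := R.subgroupOf U
  haveI : R'.Normal := inferInstance
  haveI := Fintype.ofFinite R'
  have hjinj : Function.Injective j := fun a b h => Subtype.ext (by rw [← hj a, ← hj b, h])
  let eR : R' ≃* N :=
    (Subgroup.subgroupOfEquivOfLe hRU).trans (MonoidHom.ofInjective hjinj).symm
  have hresR : ∀ r : R', (χ₀ : E → ℂ) r.1.1 = (irrPull eR θ : R' → ℂ) r := by
    intro r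
    rw [irrPull_apply, ← hχ₀]
    refine congrArg (χ₀ : E → ℂ) ?_
    exact (congrArg Subtype.val (MulEquiv.apply_symm_apply (MonoidHom.ofInjective hjinj)
      (Subgroup.subgroupOfEquivOfLe hRU r))).symm
  let χU : IrrCharacter U := ⟨fun u => (χ₀ : E → ℂ) u.1, isIrrCharacter_of_restrict R'.subtype
    (CfsgLib.Chars.isCharacter_restrict (CfsgLib.Chars.isCharacter_coe χ₀) U) (irrPull eR θ) hresR⟩
  let mkU : U →* H := mk.subgroupMap U
  let ι : U ⧸ R' →* H := QuotientGroup.lift R' mkU fun r hr =>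
    Subtype.ext ((QuotientGroup.eq_one_iff (r : E)).2 hr)
  have hι : Function.Surjective ι := fun h => by
    obtain ⟨u, hu⟩ := mk.subgroupMap_surjective U h
    exact ⟨(u : U ⧸ R'), hu⟩
  let β' : IrrCharacter (U ⧸ R') :=
    ⟨fun a => (β : H → ℂ) (ι a), CfsgLib.Chars.isIrrCharacter_comp β.2 ι hι⟩
  let ξ : IrrCharacter U :=
    ⟨_, CfsgLib.Chars.Induced.gallagher_isIrrCharacter χU (irrPull eR θ) hresR β'⟩
  have hξ : ∀ u : U, (ξ : U → ℂ) u = (χ₀ : E → ℂ) u.1 * (β : H → ℂ) (mkU u) := fun _ => rfl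
  -- descend to `G`
  let πU : U →* G := (π.comp U.subtype).codRestrict G fun u => u.2
  have hπU : Function.Surjective πU := fun g => by
    obtain ⟨y, hy⟩ := hπ g.1
    exact ⟨⟨y, by show π y ∈ G; rw [hy]; exact g.2⟩, Subtype.ext hy⟩
  have hkerU : πU.ker ≤ CfsgLib.Chars.charKer (ξ : U → ℂ) := by
    intro u hu v
    have hy : u.1 ∈ π.ker := congrArg Subtype.val hu
    have h1 : mkU u = ⟨(φ ⟨u.1, hy⟩).1, hZH (φ ⟨u.1, hy⟩).2⟩ := Subtype.ext rfl
    rw [← show v * (v⁻¹ * u * v) = u * v by group, hξ, hξ]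
    have h2 : v⁻¹ * u * v = u := Subtype.ext (by
      simp only [Subgroup.coe_mul, Subgroup.coe_inv]
      rw [mul_assoc, ← Subgroup.mem_center_iff.1 (hker hy) v.1, inv_mul_cancel_left])
    rw [h2, Subgroup.coe_mul, Subgroup.mem_center_iff.1 (hker hy) v.1, hc ⟨u.1, hy⟩,
      show mkU (v * u) = mkU u * mkU v by
        rw [← map_mul]
        exact congrArg mkU (Subtype.ext (Subgroup.mem_center_iff.1 (hker hy) v.1)),
      h1, hβZ (φ ⟨u.1, hy⟩)]
    calc c ⟨u.1, hy⟩ * (χ₀ : E → ℂ) v.1 * ((l (φ ⟨u.1, hy⟩) : ℂ) * (β : H → ℂ) (mkU v))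
        = ((l (φ ⟨u.1, hy⟩) : ℂ) * c ⟨u.1, hy⟩) *
            ((χ₀ : E → ℂ) v.1 * (β : H → ℂ) (mkU v)) := by ring
      _ = _ := by rw [hl, one_mul]
  obtain ⟨ψ, hψ⟩ := CfsgLib.Chars.exists_inflate_eq πU.ker ξ hkerU
  let χ : IrrCharacter G := irrPull (QuotientGroup.quotientKerEquivOfSurjective πU hπU).symm ψ
  have hχ : ∀ u : U, (χ : G → ℂ) (πU u) = (ξ : U → ℂ) u := by
    intro u
    rw [irrPull_apply, ← hψ, CfsgLib.Chars.inflate_apply]
    refine congrArg (ψ : U ⧸ πU.ker → ℂ) ?_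
    rw [MulEquiv.symm_apply_eq]
    rfl
  refine ⟨χ, ?_, fun x g => ?_⟩
  · have hres : (fun n : N => (χ : G → ℂ) ⟨n, hNG n.2⟩) =
        (β : H → ℂ) 1 • (θ : N → ℂ) := by
      funext n
      have h1 : πU ⟨j n, hRU ⟨n, rfl⟩⟩ = ⟨n, hNG n.2⟩ := Subtype.ext (hj n)
      rw [← h1, hχ, hξ, show mkU ⟨j n, hRU ⟨n, rfl⟩⟩ = 1 from
        Subtype.ext ((QuotientGroup.eq_one_iff (j n)).2 ⟨n, rfl⟩), hχ₀]
      simp [mul_comm]
    rw [hres, CfsgLib.Chars.classInner_smul_left, CfsgLib.Chars.classInner_self, mul_one]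
    exact CfsgLib.Chars.map_one_ne_zero β
  · obtain ⟨a, ha⟩ := hπ x
    obtain ⟨u, hu⟩ := hπU g
    have h1 : πU ⟨a * u.1 * a⁻¹, hUn.conj_mem u.1 u.2 a⟩ =
        ⟨x * g * x⁻¹, hG.conj_mem g g.2 x⟩ := Subtype.ext (by
      show π (a * u.1 * a⁻¹) = x * g.1 * x⁻¹
      rw [map_mul, map_mul, map_inv, ha, show π u.1 = g.1 from congrArg Subtype.val hu])
    rw [← h1, ← hu, hχ, hχ, hξ, hξ, CfsgLib.Chars.isClassFunction_coe χ₀ u.1 a]
    congr 1
    rw [show mkU ⟨a * u.1 * a⁻¹, hUn.conj_mem u.1 u.2 a⟩ =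
        ⟨mk a * (mkU u).1 * (mk a)⁻¹, hH.conj_mem _ (mkU u).2 (mk a)⟩ from Subtype.ext (by
      show mk (a * u.1 * a⁻¹) = mk a * mk u.1 * (mk a)⁻¹
      rw [map_mul, map_mul, map_inv])]
    exact hβinv (mk a) (mkU u)

end CfsgLib.Glauberman
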