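import Cfsg.Agent.Glauberman.Sub
import Cfsg.Agent.Chars.Induced.Clifford
import Cfsg.Agent.Chars.Basic.ClassSum

/-!
# Invariant characters over an invariant character of a normal subgroup

Under a coprime solvable action the Glauberman maps respect lying over; hence an invariant
character of an invariant normal subgroup lies under an invariant character.
-/

set_option autoImplicit false

namespace CfsgLib.Glauberman

open Cfsg MulAction

universe u v

variable {G : Type u} [Group G]

/-- A prime not dividing `|G|` does not divide a ramification index in `G`. -/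
theorem not_dvd_mult_of_ne_zero [Finite G] (N : Subgroup G) [N.Normal] [Fintype N] {p : ℕ}
    (hp : ¬ p ∣ Nat.card G) (χ : IrrCharacter G) (θ : IrrCharacter N)
    (h : mult N.subtype χ θ ≠ 0) : ¬ p ∣ mult N.subtype χ θ := by
  haveI := Fintype.ofFinite G
  have heq : CfsgLib.Chars.Induced.mult (fun n : N => (χ : G → ℂ) n) (θ : N → ℂ) =
      mult N.subtype χ θ := by
    symm
    exact mult_eq_of_classInner_eq N.subtype χ θ (CfsgLib.Chars.Induced.classInner_eq_mult
      (CfsgLib.Chars.isCharacter_restrict (CfsgLib.Chars.isCharacter_coe χ) N) θ)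
  have h1 := CfsgLib.Chars.Induced.clifford_one χ θ (by rw [heq]; exact h)
  rw [heq, ← CfsgLib.Chars.coe_charDegree, ← CfsgLib.Chars.coe_charDegree, mul_assoc] at h1
  norm_cast at h1
  exact fun hd => hp (hd.trans ((Dvd.intro _ h1.symm).trans (CfsgLib.Chars.charDegree_dvd_card χ)))

/-- Multiplicities along a composite. -/
theorem mult_comp {B C : Type*} [Group B] [Group C] [Fintype B] [Fintype C] (f : B →* G)
    (e : C →* B) (χ : IrrCharacter G) (γ : IrrCharacter C) :
    mult (f.comp e) χ γ = ∑ β : IrrCharacter B, mult f χ β * mult e β γ := by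
  apply mult_eq_of_classInner_eq
  have h : (fun c : C => (χ : G → ℂ) ((f.comp e) c)) =
      ∑ β : IrrCharacter B, (mult f χ β : ℂ) • (fun c : C => (β : B → ℂ) (e c)) := by
    funext c
    rw [MonoidHom.comp_apply, restrict_eq_sum f χ (e c)]
    simp [Finset.sum_apply]
  rw [h, CfsgLib.Chars.classInner_sum_left]
  simp only [CfsgLib.Chars.classInner_smul_left, classInner_eq_mult]
  push_cast
  rfl

/-- An invariant subgroup inherits the action. -/
@[reducible] def subAction {S : Type v} [Group S] [MulDistribMulAction S G] (N : Subgroup G)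
    (hN : ∀ (s : S), ∀ n ∈ N, s • n ∈ N) : MulDistribMulAction S N where
  smul s n := ⟨s • n.1, hN s n.1 n.2⟩
  one_smul n := Subtype.ext (one_smul S n.1)
  mul_smul s t n := Subtype.ext (mul_smul s t n.1)
  smul_mul s m n := Subtype.ext (smul_mul' s m.1 n.1)
  smul_one s := Subtype.ext (smul_one s)

/-- **An invariant character below lies under an invariant character.** -/
theorem exists_fixed_over (n : ℕ) : ∀ (S : Type v) [Group S] [Finite S] [Group.IsSolvable S],
    Nat.card S = n → ∀ (G : Type u) [Group G] [Finite G] [MulDistribMulAction S G]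
    (N : Subgroup G) [N.Normal] [Fintype N], (Nat.card G).Coprime n →
    (∀ (s : S), ∀ m ∈ N, s • m ∈ N) → ∀ θ : IrrCharacter N,
    (∀ (s : S) (m m' : N), (m' : G) = s • (m : G) → (θ : N → ℂ) m' = (θ : N → ℂ) m) →
    ∃ χ ∈ fixedPoints S (IrrCharacter G), mult N.subtype χ θ ≠ 0 := by
  induction n using Nat.strong_induction_on with
  | _ n ih =>
    intro S _ _ _ hn G _ _ _ N _ _ hcop hNS θ hθ
    haveI := Fintype.ofFinite G
    rcases subsingleton_or_nontrivial S with hS | hS
    · obtain ⟨χ, hχ⟩ := CfsgLib.Chars.Induced.exists_mult_ne_zero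
        (CfsgLib.Chars.Induced.isCharacter_indFun N (CfsgLib.Chars.isCharacter_coe θ))
        (fun h0 => by
          have h1 := congrFun h0 1
          rw [CfsgLib.Chars.Induced.indFun_one_apply, Pi.zero_apply, mul_eq_zero] at h1
          exact h1.elim (fun h2 => Subgroup.index_ne_zero_of_finite (Nat.cast_eq_zero.1 h2))
            (CfsgLib.Chars.map_one_ne_zero θ))
      refine ⟨χ, fun s => by rw [Subsingleton.elim s 1, one_smul], fun h0 => hχ ?_⟩
      have h1 := classInner_eq_mult N.subtype χ θ
      rw [h0, Nat.cast_zero] at h1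
      rw [CfsgLib.Chars.Induced.mult_indFun_irr, CfsgLib.Chars.Induced.mult]
      rw [show (fun m : N => (χ : G → ℂ) m) = fun m : N => (χ : G → ℂ) (N.subtype m) from rfl, h1]
      simp
    obtain ⟨p, hp, N₀, hN₀, hN1, hNp⟩ := exists_normal_pGroup S
    haveI := Fact.mk hp
    have hpS : p ∣ Nat.card S := by
      obtain ⟨k, hk⟩ := IsPGroup.iff_card.1 hNp
      refine (?_ : p ∣ Nat.card N₀).trans (Subgroup.card_subgroup_dvd_card N₀)
      rw [hk]
      refine dvd_pow_self p fun h => hN1 (Subgroup.card_eq_one.1 ?_)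
      rw [hk, h, pow_zero]
    have hpG : ¬ p ∣ Nat.card G := fun h =>
      hp.not_dvd_one (hcop ▸ Nat.dvd_gcd h (hn ▸ hpS))
    haveI := Fintype.ofFinite (FixedPoints.subgroup N₀ G)
    letI actN : MulDistribMulAction S N := subAction N hNS
    let D : Subgroup (FixedPoints.subgroup N₀ G) := N.subgroupOf _
    haveI : Fintype D := Fintype.ofFinite _
    have hDS : ∀ (q : S ⧸ N₀), ∀ d ∈ D, q • d ∈ D := by
      intro q
      induction q using QuotientGroup.induction_on with
      | H s => exact fun d hd => hNS s _ hd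
    letI actD : MulDistribMulAction (S ⧸ N₀) D := subAction D hDS
    let e' : D →* N :=
      { toFun := fun d => ⟨d.1.1, d.2⟩
        map_one' := rfl
        map_mul' := fun _ _ => rfl }
    have he' : Function.Injective e' := fun d d' h =>
      Subtype.ext (Subtype.ext (congrArg (fun m : N => (m : G)) h))
    have hfix' : ∀ m : N, m ∈ fixedPoints N₀ N ↔ ∃ d, e' d = m := fun m =>
      ⟨fun h => ⟨⟨⟨m.1, fun a => congrArg Subtype.val (h a)⟩, m.2⟩, rfl⟩,
        fun ⟨d, hd⟩ a => hd ▸ Subtype.ext (d.1.2 a)⟩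
    have hpN : ¬ p ∣ Nat.card N := fun h => hpG (h.trans (Subgroup.card_subgroup_dvd_card N))
    have hθS : θ ∈ fixedPoints S (IrrCharacter N) :=
      (mem_fixed_iff θ).2 fun s m => hθ s m _ rfl
    have hθ₀ : θ ∈ fixedPoints N₀ (IrrCharacter N) := fun a => hθS a.1
    let θ' := glaubermanEquiv hNp hpN e' he' hfix' ⟨θ, hθ₀⟩
    have hθθ' : ¬ p ∣ mult e' θ θ' :=
      (glaubermanEquiv_eq_iff hNp hpN e' he' hfix' ⟨θ, hθ₀⟩ θ').1 rfl
    have hθ'S : ∀ (q : S ⧸ N₀) (d d' : D), (d' : FixedPoints.subgroup N₀ G) = q • d.1 →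
        (θ' : D → ℂ) d' = (θ' : D → ℂ) d := by
      intro q
      induction q using QuotientGroup.induction_on with
      | H s =>
        intro d d' hd
        have hpull : irrPull (MulDistribMulAction.toMulAut S N s) θ = θ :=
          Subtype.ext (funext fun m => (mem_fixed_iff θ).1 hθS s m)
        have h2 : mult e' θ (irrPull (MulDistribMulAction.toMulAut (S ⧸ N₀) D (s : S ⧸ N₀)) θ') =
            mult e' θ θ' := by
          conv_lhs => rw [← hpull]
          exact mult_irrPull e' _ _ (fun c => rfl) θ θ'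
        have h3 := (glaubermanEquiv_eq_iff hNp hpN e' he' hfix' ⟨θ, hθ₀⟩ _).2 (h2 ▸ hθθ')
        have h4 := congrFun (congrArg Subtype.val h3) d
        rw [show d' = (MulDistribMulAction.toMulAut (S ⧸ N₀) D (s : S ⧸ N₀)) d from Subtype.ext hd]
        exact h4.symm
    have hcard : Nat.card (S ⧸ N₀) < n := by
      have h1 : Nat.card (S ⧸ N₀) * Nat.card N₀ = n :=
        (Subgroup.card_eq_card_quotient_mul_card_subgroup N₀).symm.trans hn
      have h2 : 1 < Nat.card N₀ := (Subgroup.one_lt_card_iff_ne_bot N₀).2 hN1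
      rw [← h1]
      exact lt_mul_of_one_lt_right Nat.card_pos h2
    obtain ⟨β, hβ, hβθ⟩ := ih _ hcard (S ⧸ N₀) rfl (FixedPoints.subgroup N₀ G) D
      ((hcop.coprime_dvd_left (Subgroup.card_subgroup_dvd_card _)).coprime_dvd_right
        (hn ▸ Subgroup.card_quotient_dvd_card N₀)) hDS θ' hθ'S
    have hfix : ∀ g : G, g ∈ fixedPoints N₀ G ↔
        ∃ c, (FixedPoints.subgroup N₀ G).subtype c = g :=
      fun g => ⟨fun h => ⟨⟨g, h⟩, rfl⟩, fun ⟨c, hc⟩ => hc ▸ c.2⟩
    let ψ := glaubermanEquiv hNp hpG (FixedPoints.subgroup N₀ G).subtype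
      (Subgroup.subtype_injective _) hfix
    set χ := ψ.symm β with hχdef
    have hχβ : ¬ p ∣ mult (FixedPoints.subgroup N₀ G).subtype χ.1 β :=
      (glaubermanEquiv_eq_iff hNp hpG _ _ hfix χ β).1 (ψ.apply_symm_apply β)
    refine ⟨χ.1, fun s => ?_, fun h0 => ?_⟩
    · have h1 : mult (FixedPoints.subgroup N₀ G).subtype (s • χ.1) ((s : S ⧸ N₀) • β) =
          mult (FixedPoints.subgroup N₀ G).subtype χ.1 β :=
        mult_irrPull _ _ _ (fun c => rfl) χ.1 β
      rw [hβ] at h1
      have h2 : ψ ⟨s • χ.1, smul_mem_fixed N₀ s χ.2⟩ = β :=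
        (glaubermanEquiv_eq_iff hNp hpG _ _ hfix _ β).2 (by rw [h1]; exact hχβ)
      exact congrArg Subtype.val (ψ.injective (h2.trans (ψ.apply_symm_apply β).symm))
    · -- compare the two ways of restricting to `D`
      have hcomp : N.subtype.comp e' = (FixedPoints.subgroup N₀ G).subtype.comp D.subtype := rfl
      have h1 := mult_comp N.subtype e' χ.1 θ'
      rw [hcomp, mult_comp] at h1
      have h2 : ((∑ η : IrrCharacter N, mult N.subtype χ.1 η * mult e' η θ' : ℕ) : ZMod p) = 0 := by
        classical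
        haveI := Fintype.ofFinite (fixedPoints N₀ (IrrCharacter N))
        push_cast
        rw [CfsgLib.CharTable.sum_eq_sum_fixedPoints (k := ZMod p) hNp
          (fun η : IrrCharacter N => (mult N.subtype χ.1 η : ZMod p) * (mult e' η θ' : ZMod p))]
        · refine Finset.sum_eq_zero fun η _ => ?_
          by_cases hη : η.1 = θ
          · rw [hη, h0, Nat.cast_zero, zero_mul]
          · rw [(ZMod.natCast_eq_zero_iff (mult e' η.1 θ') p).2 (by
              by_contra hd
              exact hη ((glauberman hNp hpN e' he' hfix').2.1 η.1 η.2 θ hθ₀ θ' hd hθθ')), mul_zero]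
        · intro a η
          have hχa : irrPull (MulDistribMulAction.toMulAut S G (a : S)⁻¹) χ.1 = χ.1 := χ.2 a
          have e1 : mult N.subtype χ.1 (a • η) = mult N.subtype χ.1 η := by
            conv_lhs => rw [← hχa]
            exact mult_irrPull N.subtype _ _ (fun c => rfl) χ.1 η
          have hθ'a : irrPull (MulEquiv.refl D) θ' = θ' := Subtype.ext rfl
          have e2 : mult e' (a • η) θ' = mult e' η θ' := by
            conv_lhs => rw [← hθ'a]
            exact mult_irrPull e' _ _ (fun c => Subtype.ext ((c.1.2 (a⁻¹)).symm)) η θ'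
          show (mult N.subtype χ.1 (a • η) : ZMod p) * (mult e' (a • η) θ' : ZMod p) = _
          rw [e1, e2]
      rw [← h1] at h2
      push_cast at h2
      rw [Finset.sum_eq_single β (fun γ _ hγ => by
        rw [(ZMod.natCast_eq_zero_iff (mult (FixedPoints.subgroup N₀ G).subtype χ.1 γ) p).2 (by
          by_contra hd
          exact hγ (((glaubermanEquiv_eq_iff hNp hpG _ _ hfix χ γ).2 hd).symm.trans
            (ψ.apply_symm_apply β))), zero_mul]) (by simp)] at h2
      rcases mul_eq_zero.1 h2 with h | h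
      · exact hχβ ((ZMod.natCast_eq_zero_iff _ p).1 h)
      · exact not_dvd_mult_of_ne_zero D
          (fun h' => hpG (h'.trans (Subgroup.card_subgroup_dvd_card _))) β θ' hβθ
          ((ZMod.natCast_eq_zero_iff _ p).1 h)

end CfsgLib.Glauberman
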